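import Cfsg.Agent.Lib.SchurCover.Universal

/-!
Fibre products of central extensions, and perfect groups.
-/

set_option autoImplicit false

namespace CfsgLib.SchurCover

open Subgroup
open scoped commutatorElement

variable {G Q X : Type*} [Group G] [Group Q] [Group X]

/-- The fibre product. -/
def fibre (π : G →* Q) (ξ : X →* Q) : Subgroup (G × X) :=
  (π.comp (MonoidHom.fst G X)).eqLocus (ξ.comp (MonoidHom.snd G X))

/-- First projection of the fibre product. -/
def fibreFst (π : G →* Q) (ξ : X →* Q) : fibre π ξ →* G := (MonoidHom.fst G X).comp (fibre π ξ).subtype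

/-- Second projection of the fibre product. -/
def fibreSnd (π : G →* Q) (ξ : X →* Q) : fibre π ξ →* X := (MonoidHom.snd G X).comp (fibre π ξ).subtype

theorem fibre_rel (π : G →* Q) (ξ : X →* Q) (x : fibre π ξ) :
    π (fibreFst π ξ x) = ξ (fibreSnd π ξ x) := x.2

theorem fibreFst_surjective (π : G →* Q) {ξ : X →* Q} (hξ : Function.Surjective ξ) :
    Function.Surjective (fibreFst π ξ) := fun g => by
  obtain ⟨x, hx⟩ := hξ (π g)
  exact ⟨⟨(g, x), hx.symm⟩, rfl⟩

theorem fibreSnd_surjective {π : G →* Q} (hπ : Function.Surjective π) (ξ : X →* Q) :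
    Function.Surjective (fibreSnd π ξ) := fun x => by
  obtain ⟨g, hg⟩ := hπ (ξ x)
  exact ⟨⟨(g, x), hg⟩, rfl⟩

theorem ker_fibreFst_le_center (π : G →* Q) {ξ : X →* Q} (hc : ξ.ker ≤ center X) :
    (fibreFst π ξ).ker ≤ center (fibre π ξ) := by
  rintro ⟨⟨g, x⟩, hgx⟩ (h : g = 1)
  subst h
  have hx : x ∈ ξ.ker := ((show π 1 = ξ x from hgx).symm.trans π.map_one : ξ x = 1)
  rw [mem_center_iff]
  rintro ⟨⟨g', x'⟩, hgx'⟩
  exact Subtype.ext (Prod.ext ((mul_one g').trans (one_mul g').symm) (mem_center_iff.1 (hc hx) x'))

/-- A perfect group has no nontrivial homomorphism into an abelian group. -/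
theorem eq_one_of_perfect {A : Type*} [CommGroup A] (hG : Group.IsPerfect G) (f : G →* A) :
    f = 1 := by
  refine MonoidHom.ext fun g => ?_
  have h : g ∈ commutator G := by
    rw [(Group.isPerfect_def).1 hG]; exact mem_top g
  exact Abelianization.commutator_subset_ker f h

/-- Two homomorphisms from a perfect group that agree modulo a central kernel are equal. -/
theorem hom_ext_of_perfect (hG : Group.IsPerfect G) {ξ : X →* Q} (hc : ξ.ker ≤ center X)
    (η η' : G →* X) (h : ξ.comp η = ξ.comp η') : η = η' := by
  let _ : CommGroup (center X) :=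
    { (inferInstance : Group (center X)) with
      mul_comm := fun a b => Subtype.ext (mem_center_iff.1 b.2 a) }
  let d : G →* center X :=
    { toFun := fun g => ⟨η g * (η' g)⁻¹, hc (by
        rw [MonoidHom.mem_ker, map_mul, map_inv]
        have := DFunLike.congr_fun h g
        simp only [MonoidHom.comp_apply] at this
        rw [this, mul_inv_cancel])⟩
      map_one' := Subtype.ext (by simp)
      map_mul' := fun a b => Subtype.ext (by
        have hb : η b * (η' b)⁻¹ ∈ center X := hc (by
          rw [MonoidHom.mem_ker, map_mul, map_inv]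
          have := DFunLike.congr_fun h b
          simp only [MonoidHom.comp_apply] at this
          rw [this, mul_inv_cancel])
        show η (a * b) * (η' (a * b))⁻¹ = η a * (η' a)⁻¹ * (η b * (η' b)⁻¹)
        rw [map_mul, map_mul, mul_inv_rev, mem_center_iff.1 hb (η a * (η' a)⁻¹)]
        calc η a * η b * ((η' b)⁻¹ * (η' a)⁻¹) = η a * (η b * (η' b)⁻¹) * (η' a)⁻¹ := by group
          _ = _ := by rw [mem_center_iff.1 hb (η a)]; group) }
  have hd := eq_one_of_perfect hG d
  refine MonoidHom.ext fun g => ?_
  have h1 : η g * (η' g)⁻¹ = 1 := congrArg Subtype.val (DFunLike.congr_fun hd g)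
  exact mul_inv_eq_one.1 h1

/-- In a central extension of a perfect group with kernel meeting the derived subgroup trivially,
the derived subgroup is a section. -/
theorem exists_section_of_perfect {E : Type*} [Group E] (hG : Group.IsPerfect G) (f : E →* G)
    (hf : Function.Surjective f) (h : f.ker ⊓ commutator E = ⊥) :
    ∃ s : G →* E, f.comp s = MonoidHom.id G := by
  have hb : Function.Bijective (f.comp (commutator E).subtype) := by
    refine ⟨(injective_iff_map_eq_one _).2 fun x hx => ?_, fun g => ?_⟩
    · have : (x : E) ∈ f.ker ⊓ commutator E := ⟨hx, x.2⟩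
      rw [h, mem_bot] at this
      exact Subtype.ext this
    · have hg : g ∈ (commutator E).map f := by
        rw [map_commutator_eq f hf, (Group.isPerfect_def).1 hG]; exact mem_top g
      obtain ⟨x, hx, rfl⟩ := hg
      exact ⟨⟨x, hx⟩, rfl⟩
  exact ⟨(commutator E).subtype.comp (MulEquiv.ofBijective _ hb).symm.toMonoidHom,
    MonoidHom.ext fun g => (MulEquiv.ofBijective _ hb).apply_symm_apply g⟩

/-- `⁅x, z⁆ = 1` for all `x` if `z` is central modulo a central kernel and the group is perfect. -/
theorem mem_center_of_map_mem_center (hG : Group.IsPerfect G) (π : G →* Q)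
    (hc : π.ker ≤ center G) {x : G} (hx : ∀ g, Commute (π x) (π g)) : x ∈ center G := by
  let _ : CommGroup (center G) :=
    { (inferInstance : Group (center G)) with
      mul_comm := fun a b => Subtype.ext (mem_center_iff.1 b.2 a) }
  have hmem : ∀ g, ⁅x, g⁆ ∈ center G := fun g => hc (by
    rw [MonoidHom.mem_ker, map_commutatorElement]
    exact commutatorElement_eq_one_iff_commute.2 (hx g))
  let d : G →* center G :=
    { toFun := fun g => ⟨⁅x, g⁆, hmem g⟩
      map_one' := Subtype.ext (commutatorElement_one_right x)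
      map_mul' := fun a b => Subtype.ext (by
        show ⁅x, a * b⁆ = ⁅x, a⁆ * ⁅x, b⁆
        calc ⁅x, a * b⁆ = ⁅x, a⁆ * (a * ⁅x, b⁆ * a⁻¹) := by simp only [commutatorElement_def]; group
          _ = _ := by rw [mem_center_iff.1 (hmem b) a, mul_inv_cancel_right]) }
  rw [mem_center_iff]
  intro g
  have h1 : ⁅x, g⁆ = 1 := congrArg Subtype.val (DFunLike.congr_fun (eq_one_of_perfect hG d) g)
  exact (commutatorElement_eq_one_iff_mul_comm.1 h1).symm

end CfsgLib.SchurCover
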