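import Cfsg.Agent.Lib.SchurCover.Perfect

/-!
When is the Schur covering group unique over the group?
-/

set_option autoImplicit false

namespace CfsgLib.SchurCover

open Subgroup
open scoped commutatorElement

universe u v

variable {Q : Type u} [Group Q] [Finite Q]

/-- Two covers are isomorphic over `Q` in the coprime case. -/
theorem exists_equiv_of_coprime {A : Type v} [CommGroup A] (hA : Cfsg.HasSchurMultiplier Q A)
    (hcop : Nat.Coprime (Nat.card (Abelianization Q)) (Nat.card A))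
    {Γ₁ Γ₂ : Type u} [Group Γ₁] [Finite Γ₁] [Group Γ₂] [Finite Γ₂] (σ₁ : Γ₁ →* Q) (σ₂ : Γ₂ →* Q)
    (h₁ : Cfsg.IsStemExtension σ₁) (h₂ : Cfsg.IsStemExtension σ₂) (e₁ : σ₁.ker ≃* A)
    (e₂ : σ₂.ker ≃* A) : ∃ e : Γ₁ ≃* Γ₂, σ₂.comp e.toMonoidHom = σ₁ := by
  classical
  have : Finite A := Finite.of_equiv _ e₁.toEquiv
  set E := fibre σ₁ σ₂
  set f₁ := fibreFst σ₁ σ₂ with hf₁
  set f₂ := fibreSnd σ₁ σ₂ with hf₂
  set τ := σ₁.comp f₁ with hτ
  have hrel : ∀ x, σ₁ (f₁ x) = σ₂ (f₂ x) := fibre_rel σ₁ σ₂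
  have hs₁ : Function.Surjective f₁ := fibreFst_surjective σ₁ h₂.1
  have hs₂ : Function.Surjective f₂ := fibreSnd_surjective h₁.1 σ₂
  have hτs : Function.Surjective τ := h₁.1.comp hs₁
  have hτc : τ.ker ≤ center E := by
    intro x hx
    rw [mem_center_iff]
    intro y
    have hx₂ : f₂ x ∈ σ₂.ker := (hrel x).symm.trans hx
    exact Subtype.ext (Prod.ext (mem_center_iff.1 (h₁.2.1 hx) (f₁ y))
      (mem_center_iff.1 (h₂.2.1 hx₂) (f₂ y)))
  set W : Subgroup E := τ.ker ⊓ commutator E with hW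
  obtain ⟨φ, hφ⟩ : ∃ φ : A →* W, Function.Surjective φ := exists_surjective_ker_inf hA τ hτs hτc
  have hWcard : Nat.card W ≤ Nat.card A := Nat.card_le_card_of_surjective φ hφ
  have hmem₁ : ∀ w : W, f₁ (w : E) ∈ σ₁.ker := fun w => w.2.1
  have hmem₂ : ∀ w : W, f₂ (w : E) ∈ σ₂.ker := fun w => (hrel w).symm.trans w.2.1
  have hbij : ∀ {Γ : Type u} [Group Γ] [Finite Γ] (σ : Γ →* Q) (f : E →* Γ),
      Function.Surjective f → Cfsg.IsStemExtension σ → σ.comp f = τ → (σ.ker ≃* A) →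
      ∀ x ∈ commutator E, f x = 1 → x = 1 := by
    intro Γ _ _ σ f hf hσ hcomp e x hx hfx
    let g : W →* σ.ker := (f.comp W.subtype).codRestrict σ.ker
      (fun w => (DFunLike.congr_fun hcomp (w : E)).trans w.2.1)
    have hg : Function.Surjective g := by
      intro z
      have hz : (z : Γ) ∈ (commutator E).map f := by
        rw [map_commutator_eq f hf]; exact hσ.2.2 z.2
      obtain ⟨y, hy, hyz⟩ := hz
      refine ⟨⟨y, ⟨?_, hy⟩⟩, Subtype.ext hyz⟩
      show τ y = 1
      rw [← DFunLike.congr_fun hcomp y]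
      show σ (f y) = 1
      rw [hyz]; exact z.2
    have hb : Function.Bijective g := by
      rw [Nat.bijective_iff_surjective_and_card]
      exact ⟨hg, le_antisymm (hWcard.trans_eq (Nat.card_congr e.toEquiv).symm)
        (Nat.card_le_card_of_surjective g hg)⟩
    have hxW : x ∈ W := ⟨by
      show τ x = 1
      rw [← DFunLike.congr_fun hcomp x]
      show σ (f x) = 1
      rw [hfx, map_one], hx⟩
    exact congrArg Subtype.val
      (hb.1 (show g ⟨x, hxW⟩ = g 1 from Subtype.ext (hfx.trans (f.comp W.subtype).map_one.symm)))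
  have hcomp₂ : σ₂.comp f₂ = τ := MonoidHom.ext fun x => (hrel x).symm
  have hinj₁ := hbij σ₁ f₁ hs₁ h₁ rfl e₁
  have hinj₂ := hbij σ₂ f₂ hs₂ h₂ hcomp₂ e₂
  -- the complement
  set a := Nat.card (Abelianization Q)
  let μ : E →* Abelianization E := Abelianization.of
  set S : Subgroup E := ((powMonoidHom a).comp μ).ker with hS
  have hμker : ∀ x, μ x = 1 ↔ x ∈ commutator E := fun x => by
    rw [← MonoidHom.mem_ker, Abelianization.ker_of]
  have hKpow : ∀ x ∈ τ.ker, μ x ^ Nat.card A = 1 := by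
    intro x hx
    rw [← map_pow, hμker]
    have h1 : f₁ x ^ Nat.card A = 1 := by
      have := congrArg Subtype.val (pow_card_eq_one' (x := (⟨f₁ x, hx⟩ : σ₁.ker)))
      rwa [Nat.card_congr e₁.toEquiv] at this
    have h2 : f₂ x ^ Nat.card A = 1 := by
      have := congrArg Subtype.val
        (pow_card_eq_one' (x := (⟨f₂ x, (hrel x).symm.trans hx⟩ : σ₂.ker)))
      rwa [Nat.card_congr e₂.toEquiv] at this
    have h0 : x ^ Nat.card A = 1 := Subtype.ext (Prod.ext
      ((map_pow f₁ x _).trans h1) ((map_pow f₂ x _).trans h2))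
    rw [h0]; exact one_mem _
  have hSK : ∀ x ∈ S, x ∈ τ.ker → x ∈ commutator E := by
    intro x hx hxK
    have := pow_gcd_eq_one.2 ⟨(hx : μ x ^ a = 1), hKpow x hxK⟩
    rwa [hcop.gcd_eq_one, pow_one, hμker] at this
  have hES : commutator E ≤ S := fun x hx => by
    show μ x ^ a = 1
    rw [(hμker x).2 hx, one_pow]
  have hgen : ∀ x, ∃ s ∈ S, s⁻¹ * x ∈ τ.ker := by
    intro x
    suffices hx : x ∈ S ⊔ τ.ker by
      obtain ⟨s, hs, k, hk, hsk⟩ := mem_sup_of_normal_right.1 hx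
      exact ⟨s, hs, by rw [← hsk, inv_mul_cancel_left]; exact hk⟩
    have hxa : τ x ^ a ∈ commutator Q := by
      rw [← Abelianization.ker_of, MonoidHom.mem_ker, map_pow]
      exact pow_card_eq_one'
    rw [← map_commutator_eq τ hτs] at hxa
    obtain ⟨y, hy, hyx⟩ := hxa
    have hk : y⁻¹ * x ^ a ∈ τ.ker := by
      rw [MonoidHom.mem_ker, map_mul, map_inv, map_pow, hyx, inv_mul_cancel]
    have hμ : (μ x ^ a) ^ Nat.card A = 1 := by
      have := hKpow _ hk
      rwa [map_mul, map_inv, (hμker y).2 hy, inv_one, one_mul, map_pow] at this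
    have h1 : x ^ Nat.card A ∈ S ⊔ τ.ker := by
      refine mem_sup_left ?_
      show μ (x ^ Nat.card A) ^ a = 1
      rw [map_pow, ← pow_mul, mul_comm, pow_mul, hμ]
    have h2 : x ^ a ∈ S ⊔ τ.ker := by
      have := mul_mem_sup (hES hy) hk
      rwa [mul_inv_cancel_left] at this
    have hg := Nat.gcd_eq_gcd_ab a (Nat.card A)
    rw [hcop.gcd_eq_one] at hg
    have h3 := mul_mem (zpow_mem h2 (Nat.gcdA a (Nat.card A))) (zpow_mem h1 (Nat.gcdB a (Nat.card A)))
    rwa [← zpow_natCast x a, ← zpow_natCast x (Nat.card A), ← zpow_mul, ← zpow_mul, ← zpow_add,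
      ← hg, Nat.cast_one, zpow_one] at h3
  -- restrictions to the complement are bijective
  have hsec : ∀ {Γ : Type u} [Group Γ] (σ : Γ →* Q) (f : E →* Γ),
      Function.Surjective f → σ.ker ≤ commutator Γ → σ.comp f = τ →
      (∀ x ∈ commutator E, f x = 1 → x = 1) → Function.Bijective (f.comp S.subtype) := by
    intro Γ _ σ f hf hd hcomp hinj
    refine ⟨(injective_iff_map_eq_one _).2 fun x hx => ?_, fun g => ?_⟩
    · have hxK : (x : E) ∈ τ.ker := by
        show τ x = 1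
        rw [← DFunLike.congr_fun hcomp (x : E)]
        show σ (f x) = 1
        rw [show f (x : E) = 1 from hx, map_one]
      exact Subtype.ext (hinj _ (hSK _ x.2 hxK) hx)
    · obtain ⟨x, rfl⟩ := hf g
      obtain ⟨s, hs, hk⟩ := hgen x
      have h5 : f (s⁻¹ * x) ∈ (commutator E).map f := by
        rw [map_commutator_eq f hf]
        exact hd ((DFunLike.congr_fun hcomp (s⁻¹ * x)).trans hk)
      obtain ⟨c, hc, hcx⟩ := h5
      exact ⟨⟨s * c, mul_mem hs (hES hc)⟩, by
        show f (s * c) = f x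
        rw [map_mul, hcx, ← map_mul, mul_inv_cancel_left]⟩
  let b₁ := MulEquiv.ofBijective _ (hsec σ₁ f₁ hs₁ h₁.2.2 rfl hinj₁)
  let b₂ := MulEquiv.ofBijective _ (hsec σ₂ f₂ hs₂ h₂.2.2 hcomp₂ hinj₂)
  refine ⟨b₁.symm.trans b₂, MonoidHom.ext fun g => ?_⟩
  show σ₂ (f₂ (b₁.symm g : S)) = σ₁ g
  rw [← hrel]
  exact congrArg σ₁ (b₁.apply_symm_apply g)

/-- Unless the orders are coprime, some cover is not isomorphic over `Q` to a given one. -/
theorem exists_cover_not_equiv {A : Type v} [CommGroup A]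
    (hncop : ¬ Nat.Coprime (Nat.card (Abelianization Q)) (Nat.card A))
    {Γ : Type u} [Group Γ] [Finite Γ] (σ : Γ →* Q) (hσ : Cfsg.IsStemExtension σ) (e : σ.ker ≃* A) :
    ∃ (Γ₂ : Type u) (_ : Group Γ₂) (_ : Finite Γ₂) (σ₂ : Γ₂ →* Q), Cfsg.IsStemExtension σ₂ ∧
      Nonempty (σ₂.ker ≃* A) ∧ ¬ ∃ i : Γ ≃* Γ₂, σ₂.comp i.toMonoidHom = σ := by
  classical
  obtain ⟨hs, hc, hd⟩ := hσ
  have : Finite A := Finite.of_equiv _ e.toEquiv
  obtain ⟨p, hp, hpQ, hpA⟩ := Nat.Prime.not_coprime_iff_dvd.1 hncop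
  have := Fact.mk hp
  -- a cyclic direct factor of order divisible by `p`
  obtain ⟨ι, _, n, hn, ⟨ε⟩⟩ := CommGroup.equiv_prod_multiplicative_zmod_of_finite (Abelianization Q)
  obtain ⟨i, hi⟩ : ∃ i, p ∣ n i := by
    rw [Nat.card_congr ε.toEquiv, Nat.card_pi] at hpQ
    obtain ⟨i, -, hi⟩ := (Prime.dvd_finsetProd_iff hp.prime _).1 hpQ
    exact ⟨i, by rwa [Nat.card_congr Multiplicative.toAdd, Nat.card_zmod] at hi⟩
  set d := n i with hd'
  have : NeZero d := ⟨(Nat.lt_trans Nat.zero_lt_one (hn i)).ne'⟩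
  let χ : Γ →* Multiplicative (ZMod d) :=
    (Pi.evalMonoidHom (fun i => Multiplicative (ZMod (n i))) i).comp
      (ε.toMonoidHom.comp (Abelianization.of.comp σ))
  obtain ⟨c, hc'⟩ : ∃ c : Γ, χ c = Multiplicative.ofAdd 1 ∧ c ^ d ∈ commutator Γ := by
    obtain ⟨q, hq⟩ := QuotientGroup.mk'_surjective (commutator Q)
      (ε.symm (Pi.mulSingle i (Multiplicative.ofAdd (1 : ZMod (n i)))))
    obtain ⟨g, rfl⟩ := hs q
    refine ⟨g, ?_, ?_⟩
    · show ε (Abelianization.of (σ g)) i = _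
      rw [show Abelianization.of (σ g) = ε.symm (Pi.mulSingle i (Multiplicative.ofAdd 1)) from hq,
        ε.apply_symm_apply, Pi.mulSingle_eq_same]
    · have h1 : σ (g ^ d) ∈ commutator Q := by
        rw [← Abelianization.ker_of, MonoidHom.mem_ker, map_pow, map_pow,
          show Abelianization.of (σ g) = ε.symm (Pi.mulSingle i (Multiplicative.ofAdd 1)) from hq,
          ← map_pow, ← Pi.mulSingle_pow, ← ofAdd_nsmul, nsmul_one, hd', ZMod.natCast_self]
        simp
      rw [← map_commutator_eq σ hs] at h1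
      obtain ⟨y, hy, hyx⟩ := h1
      have h2 : y⁻¹ * g ^ d ∈ commutator Γ := hd (by
        rw [MonoidHom.mem_ker, map_mul, map_inv, hyx, inv_mul_cancel])
      simpa using mul_mem hy h2
  -- an element of the kernel which is no `d`-th power
  obtain ⟨a, ha⟩ : ∃ a : σ.ker, ∀ m : σ.ker, (m : Γ) ^ d ≠ a := by
    obtain ⟨x, hx⟩ := exists_prime_orderOf_dvd_card' p (hpA.trans (Nat.card_congr e.toEquiv).symm.dvd)
    by_contra hall
    push Not at hall
    have hsurj : Function.Surjective (fun m : σ.ker => m ^ d) := fun a => by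
      obtain ⟨m, hm⟩ := hall a
      exact ⟨m, Subtype.ext hm⟩
    have hinj := Finite.injective_iff_surjective.2 hsurj
    have : x = 1 := hinj (show x ^ d = 1 ^ d by
      rw [one_pow, ← orderOf_dvd_iff_pow_eq_one, hx]; exact hi)
    rw [this, orderOf_one] at hx
    exact hp.ne_one hx.symm
  -- the twisted cover
  set N := d * Nat.card σ.ker with hN
  have : NeZero N := ⟨Nat.mul_ne_zero (NeZero.ne d) Nat.card_pos.ne'⟩
  let red : Multiplicative (ZMod N) →* Multiplicative (ZMod d) :=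
    (ZMod.castHom (dvd_mul_right d (Nat.card σ.ker)) (ZMod d)).toAddMonoidHom.toMultiplicative
  have hred : ∀ k : ℕ, red (Multiplicative.ofAdd (k : ZMod N)) = Multiplicative.ofAdd (k : ZMod d) :=
    fun k => congrArg Multiplicative.ofAdd
      (map_natCast (ZMod.castHom (dvd_mul_right d (Nat.card σ.ker)) (ZMod d)) k)
  let E := fibre χ red
  let u : E := ⟨((a : Γ)⁻¹, Multiplicative.ofAdd (d : ZMod N)), by
    show χ (a : Γ)⁻¹ = red (Multiplicative.ofAdd (d : ZMod N))
    rw [hred, ZMod.natCast_self, map_inv]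
    show ((Pi.evalMonoidHom _ i) (ε (Abelianization.of (σ (a : Γ)))))⁻¹ = _
    rw [show σ (a : Γ) = 1 from a.2, map_one, map_one, map_one, inv_one]
    rfl⟩
  have hu : u ∈ center E := by
    rw [mem_center_iff]
    intro y
    refine Subtype.ext (Prod.ext ?_ (mul_comm _ _))
    exact mem_center_iff.1 (inv_mem (hc a.2)) _
  have hun : (zpowers u).Normal := ⟨fun x hx g => by
    have : x ∈ center E := zpowers_le.2 hu hx
    rwa [mem_center_iff.1 this g, mul_inv_cancel_right]⟩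
  let τ : E →* Q := σ.comp (fibreFst χ red)
  have hτu : zpowers u ≤ τ.ker := zpowers_le.2 (by
    show σ (a : Γ)⁻¹ = 1
    rw [map_inv, show σ (a : Γ) = 1 from a.2, inv_one])
  let σ₂ : E ⧸ zpowers u →* Q := QuotientGroup.lift _ τ hτu
  let π : E →* E ⧸ zpowers u := QuotientGroup.mk' _
  have hzero : ∀ z : E, (z : Γ × Multiplicative (ZMod N)).2 = 1 → π z = 1 → z = 1 := by
    intro z hz hπz
    obtain ⟨j, rfl⟩ := mem_zpowers_iff.1 ((QuotientGroup.eq_one_iff z).1 hπz)
    have h1 : Multiplicative.ofAdd (d : ZMod N) ^ j = 1 := hz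
    have h2 : ((N : ℕ) : ℤ) ∣ j * (d : ℤ) := by
      rw [← ZMod.intCast_zmod_eq_zero_iff_dvd]
      have := congrArg Multiplicative.toAdd h1
      simpa using this
    have h3 : ((Nat.card σ.ker : ℕ) : ℤ) ∣ j := by
      rw [hN, Nat.cast_mul, mul_comm j] at h2
      exact Int.dvd_of_mul_dvd_mul_left (by exact_mod_cast NeZero.ne d) h2
    have h4 : (a : Γ)⁻¹ ^ j = 1 := by
      obtain ⟨t, rfl⟩ := h3
      have := congrArg Subtype.val (pow_card_eq_one' (x := a⁻¹))
      rw [zpow_mul, zpow_natCast]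
      rw [SubmonoidClass.coe_pow] at this
      rw [show ((a : Γ))⁻¹ = ((a⁻¹ : σ.ker) : Γ) from rfl, this]
      simp
    exact Subtype.ext (Prod.ext h4 h1)
  -- the embedding of the old kernel
  let j : σ.ker →* E :=
    { toFun := fun z => ⟨((z : Γ), 1), by
        show χ (z : Γ) = red 1
        show (Pi.evalMonoidHom _ i) (ε (Abelianization.of (σ (z : Γ)))) = _
        rw [show σ (z : Γ) = 1 from z.2, map_one, map_one, map_one, map_one]⟩
      map_one' := rfl
      map_mul' := fun _ _ => Subtype.ext (Prod.ext rfl (one_mul _).symm) }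
  have hjinj : Function.Injective (π.comp j) := (injective_iff_map_eq_one _).2 fun z hz => by
    have := hzero (j z) rfl hz
    exact Subtype.ext (congrArg (fun w : E => (w : Γ × Multiplicative (ZMod N)).1) this)
  have hcommE : ∀ g : Γ, ∃ w : E, fibreFst χ red w = g := fun g => by
    obtain ⟨k, hk⟩ := ZMod.natCast_zmod_surjective (Multiplicative.toAdd (χ g))
    exact ⟨⟨(g, Multiplicative.ofAdd (k : ZMod N)), by
      show χ g = red (Multiplicative.ofAdd (k : ZMod N))
      rw [hred, hk]; rfl⟩, rfl⟩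
  have hlift : ∀ g ∈ commutator Γ, ∃ w ∈ commutator E, (w : Γ × Multiplicative (ZMod N)) = (g, 1) := by
    intro g hg
    rw [← map_commutator_eq (fibreFst χ red) hcommE] at hg
    obtain ⟨w, hw, rfl⟩ := hg
    exact ⟨w, hw, Prod.ext rfl (Abelianization.commutator_subset_ker (fibreSnd χ red) hw)⟩
  have hker : σ₂.ker = (π.comp j).range := by
    apply le_antisymm
    · intro y hy
      obtain ⟨⟨⟨g, k⟩, hgk⟩, rfl⟩ := QuotientGroup.mk'_surjective _ y
      have hg : g ∈ σ.ker := hy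
      obtain ⟨k', hk'⟩ := ZMod.natCast_zmod_surjective (Multiplicative.toAdd k)
      have hdk : d ∣ k' := by
        rw [← ZMod.natCast_eq_zero_iff]
        have h0 : χ g = red k := hgk
        rw [← ofAdd_toAdd k, ← hk', hred] at h0
        have h1 : χ g = 1 := by
          show (Pi.evalMonoidHom _ i) (ε (Abelianization.of (σ g))) = _
          rw [show σ g = 1 from hg, map_one, map_one, map_one]
        rw [h1] at h0
        exact (congrArg Multiplicative.toAdd h0).symm
      obtain ⟨t, rfl⟩ := hdk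
      refine ⟨⟨g * (a : Γ) ^ t, mul_mem hg (pow_mem a.2 t)⟩, ?_⟩
      refine (QuotientGroup.eq.2 ?_)
      refine mem_zpowers_iff.2 ⟨t, Subtype.ext (Prod.ext ?_ ?_)⟩
      · show ((a : Γ)⁻¹) ^ (t : ℤ) = (g * (a : Γ) ^ t)⁻¹ * g
        rw [zpow_natCast, inv_pow, mul_inv_rev, inv_mul_cancel_right]
      · show Multiplicative.ofAdd (d : ZMod N) ^ (t : ℤ) = (1 : Multiplicative (ZMod N))⁻¹ * k
        rw [inv_one, one_mul, zpow_natCast, ← ofAdd_nsmul, ← ofAdd_toAdd k, ← hk', nsmul_eq_mul,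
          Nat.cast_mul, mul_comm]
    · rintro _ ⟨z, rfl⟩
      exact z.2
  have hσ₂ : Cfsg.IsStemExtension σ₂ := by
    refine ⟨fun q => ?_, ?_, ?_⟩
    · obtain ⟨g, rfl⟩ := hs q
      obtain ⟨w, hw⟩ := hcommE g
      exact ⟨π w, show σ (fibreFst χ red w) = σ g by rw [hw]⟩
    · rw [hker]
      rintro _ ⟨z, rfl⟩
      rw [mem_center_iff]
      intro y
      obtain ⟨y, rfl⟩ := QuotientGroup.mk'_surjective _ y
      show π y * π (j z) = π (j z) * π y
      rw [← map_mul, ← map_mul]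
      congr 1
      exact Subtype.ext (Prod.ext (mem_center_iff.1 (hc z.2) _) (mul_comm _ _))
    · rw [hker]
      rintro _ ⟨z, rfl⟩
      obtain ⟨w, hw, hwz⟩ := hlift z (hd z.2)
      rw [← map_commutator_eq π (QuotientGroup.mk'_surjective _)]
      exact ⟨w, hw, congrArg π (Subtype.ext hwz)⟩
  let ek : σ.ker ≃* σ₂.ker := (MonoidHom.ofInjective hjinj).trans (MulEquiv.subgroupCongr hker.symm)
  have : Finite (E ⧸ zpowers u) := inferInstance
  refine ⟨E ⧸ zpowers u, inferInstance, inferInstance, σ₂, hσ₂, ⟨ek.symm.trans e⟩, ?_⟩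
  rintro ⟨φ, hφ⟩
  -- on the derived subgroup the map is the inclusion
  have hφv : ∀ g, σ₂ (φ g) = σ g := DFunLike.congr_fun hφ
  have hdiff : ∀ (w : E), ∃ z : σ.ker, φ (fibreFst χ red w) = π w * π (j z) := by
    intro w
    have h1 : (π w)⁻¹ * φ (fibreFst χ red w) ∈ σ₂.ker := by
      rw [MonoidHom.mem_ker, map_mul, map_inv, hφv]
      exact inv_mul_cancel _
    rw [hker] at h1
    obtain ⟨z, hz⟩ := h1
    exact ⟨z, by rw [show π (j z) = (π.comp j) z from rfl, hz, mul_inv_cancel_left]⟩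
  have hsame : ∀ w ∈ commutator E, φ (fibreFst χ red w) = π w := by
    have hle : commutator E ≤ (φ.toMonoidHom.comp (fibreFst χ red)).eqLocus π := by
      rw [_root_.commutator_def, commutator_le]
      intro x _ y _
      show φ (fibreFst χ red ⁅x, y⁆) = π ⁅x, y⁆
      rw [map_commutatorElement, map_commutatorElement, map_commutatorElement]
      obtain ⟨zx, hzx⟩ := hdiff x
      obtain ⟨zy, hzy⟩ := hdiff y
      rw [hzx, hzy]
      refine commutator_congr_central ?_ ?_ <;> rw [inv_mul_cancel_left]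
      · exact hσ₂.2.1 (hker.ge ⟨zx, rfl⟩)
      · exact hσ₂.2.1 (hker.ge ⟨zy, rfl⟩)
    exact fun w hw => hle hw
  obtain ⟨hc1, hc2⟩ := hc'
  obtain ⟨w, hw, hwc⟩ := hlift _ hc2
  let ĉ : E := ⟨(c, Multiplicative.ofAdd ((1 : ℕ) : ZMod N)), by
    show χ c = red (Multiplicative.ofAdd ((1 : ℕ) : ZMod N))
    rw [hred, hc1, Nat.cast_one]⟩
  obtain ⟨z, hz⟩ := hdiff ĉ
  have h1 : φ (c ^ d) = π w := by
    rw [← show fibreFst χ red w = c ^ d from congrArg Prod.fst hwc]
    exact hsame w hw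
  rw [map_pow, show φ c = π (ĉ * j z) from hz.trans (map_mul π _ _).symm, ← map_pow] at h1
  have h2 : π ((ĉ * j z) ^ d * u⁻¹ * w⁻¹) = 1 := by
    rw [map_mul, map_mul, h1, show π u⁻¹ = 1 from
      (QuotientGroup.eq_one_iff _).2 (inv_mem (mem_zpowers u)), mul_one, map_inv, mul_inv_cancel]
  have h3 := hzero _ ?_ h2
  · have h4 : (c * z) ^ d * ((a : Γ)⁻¹)⁻¹ * (c ^ d)⁻¹ = 1 := by
      have h5 := congrArg (fun x : E => fibreFst χ red x) h3
      simp only [map_mul, map_pow, map_inv, map_one] at h5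
      rwa [show fibreFst χ red w = c ^ d from congrArg Prod.fst hwc] at h5
    have hcz : Commute c (z : Γ) := mem_center_iff.1 (hc z.2) c
    rw [hcz.mul_pow, inv_inv, mul_assoc (c ^ d)] at h4
    have h6 : (z : Γ) ^ d * a = 1 := by
      have := mul_inv_eq_one.1 h4
      exact mul_eq_left.1 this
    refine ha z⁻¹ ?_
    rw [Subgroup.coe_inv, inv_pow]
    exact inv_eq_of_mul_eq_one_right h6
  · show (Multiplicative.ofAdd ((1 : ℕ) : ZMod N) * 1) ^ d * (Multiplicative.ofAdd (d : ZMod N))⁻¹ *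
      ((w : Γ × Multiplicative (ZMod N)).2)⁻¹ = 1
    rw [hwc, mul_one, ← ofAdd_nsmul, nsmul_eq_mul, Nat.cast_one, mul_one, mul_inv_cancel, one_mul,
      inv_one]

end CfsgLib.SchurCover
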