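import Mathlib
import Cfsg.Prelude.Def_KGroupFacts

/-!
The universal central extension attached to a surjection from a free group of finite rank onto a
finite group, the resulting universal stem extension, and consequences for `HasSchurMultiplier`.
-/

set_option autoImplicit false

namespace CfsgLib.SchurCover

open Subgroup
open scoped commutatorElement

universe u v w u'

/-- A surjection commutes with taking derived subgroups. -/
theorem map_commutator_eq {E : Type*} {H : Type*} [Group E] [Group H] (f : E →* H)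
    (hf : Function.Surjective f) : (commutator E).map f = commutator H := by
  rw [commutator_def, commutator_def, Subgroup.map_commutator, map_top_of_surjective f hf]

/-- The commutator subgroup only depends on the cosets of a central subgroup. -/
theorem commutator_congr_central {E : Type*} [Group E] {a a' b b' : E}
    (ha : a⁻¹ * a' ∈ center E) (hb : b⁻¹ * b' ∈ center E) : ⁅a', b'⁆ = ⁅a, b⁆ := by
  obtain ⟨y, hy, rfl⟩ : ∃ y ∈ center E, a' = a * y := ⟨_, ha, by group⟩
  obtain ⟨z, hz, rfl⟩ : ∃ z ∈ center E, b' = b * z := ⟨_, hb, by group⟩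
  have hy' : ∀ g : E, y * g = g * y := fun g => (mem_center_iff.1 hy g).symm
  have hz' : ∀ g : E, z * g = g * z := fun g => (mem_center_iff.1 hz g).symm
  simp only [commutatorElement_def, mul_inv_rev]
  calc a * y * (b * z) * (y⁻¹ * a⁻¹) * (z⁻¹ * b⁻¹)
      = a * (y * (b * z)) * y⁻¹ * a⁻¹ * z⁻¹ * b⁻¹ := by group
    _ = a * b * (z * a⁻¹) * z⁻¹ * b⁻¹ := by rw [hy']; group
    _ = a * b * a⁻¹ * b⁻¹ := by rw [hz']; group

section Bar

variable {X : Type w} {Q : Type v} [Group Q] (p : FreeGroup X →* Q)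

/-- `F / [R, F]` for `R` the kernel of `p : F → Q`. -/
abbrev Bar := FreeGroup X ⧸ ⁅p.ker, (⊤ : Subgroup (FreeGroup X))⁆

/-- The induced map `F / [R, F] → Q`. -/
def barHom : Bar p →* Q :=
  QuotientGroup.lift _ p (Subgroup.commutator_le_left p.ker ⊤)

theorem barHom_mk (x : FreeGroup X) : barHom p (x : Bar p) = p x := rfl

theorem barHom_surjective (hp : Function.Surjective p) : Function.Surjective (barHom p) :=
  fun q => by
    obtain ⟨x, rfl⟩ := hp q
    exact ⟨(x : Bar p), barHom_mk p x⟩

theorem ker_barHom_le_center : (barHom p).ker ≤ center (Bar p) := by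
  intro x hx
  obtain ⟨r, rfl⟩ := QuotientGroup.mk'_surjective _ x
  rw [mem_center_iff]
  intro g
  obtain ⟨g, rfl⟩ := QuotientGroup.mk'_surjective _ g
  have hr : r ∈ p.ker := hx
  have h : ((⁅r, g⁆ : FreeGroup X) : Bar p) = 1 :=
    (QuotientGroup.eq_one_iff _).2 (commutator_mem_commutator hr (mem_top g))
  have h' : ⁅QuotientGroup.mk' ⁅p.ker, (⊤ : Subgroup (FreeGroup X))⁆ r,
      QuotientGroup.mk' ⁅p.ker, (⊤ : Subgroup (FreeGroup X))⁆ g⁆ = (1 : Bar p) := by
    rw [← map_commutatorElement]; exact h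
  exact (commutatorElement_eq_one_iff_mul_comm.1 h').symm

/-- The multiplier subgroup `(R ⊓ F') / [R, F]`. -/
def mult : Subgroup (Bar p) := (barHom p).ker ⊓ commutator (Bar p)

theorem finite_commutator_bar [Finite Q] : Finite (commutator (Bar p)) := by
  classical
  have : Finite (Bar p ⧸ (barHom p).ker) :=
    Finite.of_equiv (barHom p).range (QuotientGroup.quotientKerEquivRange _).toEquiv.symm
  have : Finite (commutatorSet (Bar p)) := by
    let f : (Bar p ⧸ (barHom p).ker) × (Bar p ⧸ (barHom p).ker) → Bar p :=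
      fun z => ⁅z.1.out, z.2.out⁆
    refine ((Set.finite_range f).subset ?_).to_subtype
    rintro _ ⟨a, b, rfl⟩
    refine ⟨((a : Bar p ⧸ (barHom p).ker), (b : Bar p ⧸ (barHom p).ker)), ?_⟩
    exact commutator_congr_central
      (ker_barHom_le_center p (QuotientGroup.eq.1 (QuotientGroup.out_eq' (a : Bar p ⧸ (barHom p).ker)).symm))
      (ker_barHom_le_center p (QuotientGroup.eq.1 (QuotientGroup.out_eq' (b : Bar p ⧸ (barHom p).ker)).symm))
  infer_instance

theorem finite_mult [Finite Q] : Finite (mult p) :=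
  have := finite_commutator_bar p
  Finite.of_injective (inclusion (inf_le_right : mult p ≤ commutator (Bar p))) (inclusion_injective _)

/-- Exponent sums. -/
noncomputable def expSum : FreeGroup X →* Multiplicative (X →₀ ℤ) :=
  FreeGroup.lift fun x => Multiplicative.ofAdd (Finsupp.single x 1)

theorem ker_expSum : (expSum (X := X)).ker = commutator (FreeGroup X) := by
  refine le_antisymm ?_ (Abelianization.commutator_subset_ker _)
  intro g hg
  let back : Multiplicative (X →₀ ℤ) →* Abelianization (FreeGroup X) :=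
    AddMonoidHom.toMultiplicativeLeft (Finsupp.liftAddHom fun x =>
      zmultiplesHom (Additive (Abelianization (FreeGroup X)))
        (Additive.ofMul (Abelianization.of (FreeGroup.of x))))
  have hback : back.comp (expSum (X := X)) = Abelianization.of := by
    refine FreeGroup.ext_hom _ _ fun x => ?_
    simp [back, expSum]
  rw [← Abelianization.ker_of, MonoidHom.mem_ker, ← hback, MonoidHom.comp_apply,
    MonoidHom.mem_ker.1 hg, map_one]

/-- Exponent sums on `F / [R, F]`. -/
noncomputable def barExp : Bar p →* Multiplicative (X →₀ ℤ) :=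
  QuotientGroup.lift _ (expSum (X := X))
    ((commutator_mono le_top le_rfl).trans (Abelianization.commutator_subset_ker _))

theorem ker_barExp : (barExp p).ker = commutator (Bar p) := by
  refine le_antisymm ?_ (Abelianization.commutator_subset_ker _)
  intro x hx
  obtain ⟨g, rfl⟩ := QuotientGroup.mk'_surjective _ x
  have hg : g ∈ (expSum (X := X)).ker := hx
  rw [ker_expSum] at hg
  rw [← map_commutator_eq _ (QuotientGroup.mk'_surjective _)]
  exact mem_map_of_mem _ hg

/-- The kernel of `F / [R, F] → Q` splits over the multiplier subgroup. -/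
theorem exists_complement [Finite X] :
    ∃ C : Subgroup (Bar p), C ≤ (barHom p).ker ∧ C ⊓ commutator (Bar p) = ⊥ ∧
      (barHom p).ker ≤ C ⊔ mult p := by
  classical
  let K := (barHom p).ker
  let _ : CommGroup K :=
    { (inferInstance : Group K) with
      mul_comm := fun a b => Subtype.ext ((mem_center_iff.1 (ker_barHom_le_center p b.2) a)) }
  let f : Additive K →ₗ[ℤ] (X →₀ ℤ) :=
    (MonoidHom.toAdditiveLeft ((barExp p).comp K.subtype)).toIntLinearMap
  have : Module.Free ℤ (LinearMap.range f) := inferInstance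
  obtain ⟨s, hs⟩ := Module.projective_lifting_property f.rangeRestrict LinearMap.id
    f.surjective_rangeRestrict
  let sg : Multiplicative (LinearMap.range f) →* K :=
    AddMonoidHom.toMultiplicativeLeft s.toAddMonoidHom
  refine ⟨(K.subtype.comp sg).range, ?_, ?_, ?_⟩
  · rintro _ ⟨y, rfl⟩
    exact (sg y).2
  · rw [eq_bot_iff]
    rintro _ ⟨⟨y, rfl⟩, hy⟩
    rw [mem_bot]
    have h0 : barExp p (K.subtype (sg y)) = 1 := by
      rw [← MonoidHom.mem_ker, ker_barExp]; exact hy
    have h1 : f (s y.toAdd) = 0 := congrArg Multiplicative.toAdd h0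
    have h2 : f.rangeRestrict (s y.toAdd) = y.toAdd := LinearMap.congr_fun hs _
    have h3 : y.toAdd = 0 := by
      rw [← h2]; exact Subtype.ext h1
    have h4 : y = 1 := h3
    rw [MonoidHom.comp_apply, h4, map_one, map_one]
  · intro x hx
    let z : K := sg (Multiplicative.ofAdd (f.rangeRestrict (Additive.ofMul ⟨x, hx⟩)))
    have h1 : barExp p (z : Bar p) = barExp p x := by
      have h2 := LinearMap.congr_fun hs (f.rangeRestrict (Additive.ofMul (⟨x, hx⟩ : K)))
      exact congrArg (fun t : LinearMap.range f => Multiplicative.ofAdd (t : X →₀ ℤ)) h2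
    have hzx : (z : Bar p)⁻¹ * x ∈ mult p := by
      refine mem_inf.2 ⟨(barHom p).ker.mul_mem ((barHom p).ker.inv_mem z.2) hx, ?_⟩
      rw [← ker_barExp, MonoidHom.mem_ker, map_mul, map_inv, h1, inv_mul_cancel]
    have hz : (z : Bar p) ∈ (K.subtype.comp sg).range := ⟨_, rfl⟩
    have := mul_mem_sup hz hzx
    rwa [mul_inv_cancel_left] at this

/-- Lifting to any central extension. -/
theorem exists_lift {Δ : Type u'} [Group Δ] (τ : Δ →* Q) (hτ : Function.Surjective τ)
    (hc : τ.ker ≤ center Δ) : ∃ g : Bar p →* Δ, τ.comp g = barHom p := by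
  let g₀ : FreeGroup X →* Δ := FreeGroup.lift fun x => (hτ (p (FreeGroup.of x))).choose
  have hg₀ : τ.comp g₀ = p := FreeGroup.ext_hom _ _ fun x => by
    simpa [g₀] using (hτ (p (FreeGroup.of x))).choose_spec
  refine ⟨QuotientGroup.lift _ g₀ ?_, MonoidHom.ext fun x => ?_⟩
  · refine commutator_le.2 fun r hr g _ => ?_
    rw [MonoidHom.mem_ker, map_commutatorElement, commutatorElement_eq_one_iff_mul_comm]
    have : g₀ r ∈ τ.ker := by
      rw [MonoidHom.mem_ker, ← MonoidHom.comp_apply, hg₀]; exact hr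
    exact (mem_center_iff.1 (hc this) (g₀ g)).symm
  · obtain ⟨y, rfl⟩ := QuotientGroup.mk'_surjective _ x
    exact DFunLike.congr_fun hg₀ y

/-- A lift maps the multiplier subgroup onto `ker τ ⊓ Δ'`. -/
theorem mult_map_eq (hp : Function.Surjective p) {Δ : Type u'} [Group Δ] (τ : Δ →* Q)
    (hc : τ.ker ≤ center Δ) (g : Bar p →* Δ) (hg : τ.comp g = barHom p) :
    (mult p).map g = τ.ker ⊓ commutator Δ := by
  have hgv : ∀ x, τ (g x) = barHom p x := DFunLike.congr_fun hg
  apply le_antisymm
  · rintro _ ⟨x, ⟨hx1, hx2⟩, rfl⟩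
    refine ⟨(hgv x).trans hx1, ?_⟩
    exact (Subgroup.map_commutator _ _ g ▸ commutator_mono le_top le_top :
      (commutator (Bar p)).map g ≤ commutator Δ) (mem_map_of_mem g hx2)
  · rintro d ⟨hd1, hd2⟩
    have hle : commutator Δ ≤ (commutator (Bar p)).map g := by
      rw [commutator_def, commutator_def, Subgroup.map_commutator, commutator_le]
      intro a _ b _
      obtain ⟨a', ha⟩ := barHom_surjective p hp (τ a)
      obtain ⟨b', hb⟩ := barHom_surjective p hp (τ b)
      have ha' : (g a')⁻¹ * a ∈ center Δ := hc (by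
        rw [MonoidHom.mem_ker, map_mul, map_inv, hgv, ha, inv_mul_cancel])
      have hb' : (g b')⁻¹ * b ∈ center Δ := hc (by
        rw [MonoidHom.mem_ker, map_mul, map_inv, hgv, hb, inv_mul_cancel])
      rw [commutator_congr_central ha' hb']
      exact commutator_mem_commutator (mem_map_of_mem g (mem_top a')) (mem_map_of_mem g (mem_top b'))
    obtain ⟨x, hx, rfl⟩ := hle hd2
    exact ⟨x, ⟨(hgv x).symm.trans hd1, hx⟩, rfl⟩

/-- The universal stem extension obtained from a free presentation. -/
theorem exists_stem_equiv_mult [Finite X] [Finite Q] (hp : Function.Surjective p) :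
    ∃ (Γ : Type w) (_ : Group Γ) (_ : Finite Γ) (σ : Γ →* Q),
      Cfsg.IsStemExtension σ ∧ Nonempty (mult p ≃* σ.ker) := by
  classical
  obtain ⟨C, hC1, hC2, hC3⟩ := exists_complement p
  have hCn : C.Normal := ⟨fun x hx g => by
    rwa [mem_center_iff.1 (ker_barHom_le_center p (hC1 hx)) g, mul_inv_cancel_right]⟩
  let π : Bar p →* Bar p ⧸ C := QuotientGroup.mk' C
  let σ : Bar p ⧸ C →* Q := QuotientGroup.lift C (barHom p) hC1
  have hσ : ∀ x, σ (π x) = barHom p x := fun x => rfl
  have hker : σ.ker = (mult p).map π := by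
    apply le_antisymm
    · intro y hy
      obtain ⟨x, rfl⟩ := QuotientGroup.mk'_surjective C y
      have hx : x ∈ (barHom p).ker := hy
      have := mem_map_of_mem π (hC3 hx)
      rw [Subgroup.map_sup, (map_eq_bot_iff C).2 (QuotientGroup.ker_mk' C).ge, bot_sup_eq] at this
      exact this
    · rintro _ ⟨x, hx, rfl⟩
      exact hx.1
  have hinj : Function.Injective (π.comp (mult p).subtype) := by
    rw [injective_iff_map_eq_one]
    intro x hx
    have : (x : Bar p) ∈ C ⊓ commutator (Bar p) := ⟨(QuotientGroup.eq_one_iff _).1 hx, x.2.2⟩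
    rw [hC2, mem_bot] at this
    exact Subtype.ext this
  have hcard : (π.comp (mult p).subtype).range = σ.ker := by
    rw [hker, MonoidHom.range_comp, Subgroup.range_subtype]
  have := finite_mult p
  let e : mult p ≃* σ.ker :=
    (MonoidHom.ofInjective hinj).trans (MulEquiv.subgroupCongr hcard)
  have : Finite σ.ker := Finite.of_equiv _ e.toEquiv
  have : Finite (Bar p ⧸ C) := by
    refine Nat.finite_of_card_ne_zero ?_
    rw [← index_mul_card σ.ker, index_ker]
    exact Nat.mul_ne_zero Nat.card_pos.ne' Nat.card_pos.ne'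
  refine ⟨Bar p ⧸ C, inferInstance, inferInstance, σ, ⟨?_, ?_, ?_⟩, ⟨e⟩⟩
  · intro q
    obtain ⟨x, hx⟩ := barHom_surjective p hp q
    exact ⟨π x, hx⟩
  · rw [hker]
    rintro _ ⟨x, hx, rfl⟩
    rw [mem_center_iff]
    intro y
    obtain ⟨y, rfl⟩ := QuotientGroup.mk'_surjective C y
    rw [← map_mul, ← map_mul, mem_center_iff.1 (ker_barHom_le_center p hx.1) y]
  · rw [hker]
    rintro _ ⟨x, hx, rfl⟩
    rw [← map_commutator_eq π (QuotientGroup.mk'_surjective C)]
    exact mem_map_of_mem π hx.2

end Bar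

/-- The kernel meets the derived subgroup in a quotient of the multiplier subgroup. -/
theorem exists_surjective_of_mult {X : Type w} {Q : Type v} [Group Q] (p : FreeGroup X →* Q)
    (hp : Function.Surjective p) {Δ : Type u'} [Group Δ] (τ : Δ →* Q)
    (hτ : Function.Surjective τ) (hc : τ.ker ≤ center Δ) :
    ∃ f : mult p →* (τ.ker ⊓ commutator Δ : Subgroup Δ), Function.Surjective f := by
  obtain ⟨g, hg⟩ := exists_lift p τ hτ hc
  have h := mult_map_eq p hp τ hc g hg
  refine ⟨(MulEquiv.subgroupCongr h).toMonoidHom.comp (g.subgroupMap (mult p)), ?_⟩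
  exact (MulEquiv.subgroupCongr h).surjective.comp (g.subgroupMap_surjective (mult p))

/-- A small copy of a finite group. -/
theorem exists_small_copy (E : Type u') [Group E] [Finite E] :
    ∃ (E' : Type v) (_ : Group E') (_ : Finite E'), Nonempty (E ≃* E') := by
  have : Small.{v} E := Countable.toSmall E
  exact ⟨Shrink.{v} E, inferInstance, Finite.of_equiv E (equivShrink E),
    ⟨(Shrink.mulEquiv (α := E)).symm⟩⟩

variable {Q : Type v} [Group Q] [Finite Q]

/-- The standard presentation. -/
noncomputable def stdPres (Q : Type v) [Group Q] : FreeGroup Q →* Q := FreeGroup.lift id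

omit [Finite Q] in
theorem stdPres_surjective : Function.Surjective (stdPres Q) :=
  fun q => ⟨FreeGroup.of q, by simp [stdPres]⟩

/-- Every finite group has a Schur multiplier, the multiplier subgroup of any presentation. -/
theorem mult_equiv_of_hasSchurMultiplier {A : Type u} [CommGroup A]
    (hA : Cfsg.HasSchurMultiplier Q A) {X : Type w} [Finite X] (p : FreeGroup X →* Q)
    (hp : Function.Surjective p) : Nonempty (mult p ≃* A) := by
  obtain ⟨⟨Γ, _, _, σ, hσ, ⟨e⟩⟩, hup⟩ := hA
  obtain ⟨Γ', _, _, τ, hτ, ⟨e'⟩⟩ := exists_stem_equiv_mult p hp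
  obtain ⟨Δ, _, _, ⟨eΔ⟩⟩ := exists_small_copy.{v} Γ'
  let τ' : Δ →* Q := τ.comp eΔ.symm.toMonoidHom
  have hker : τ'.ker = τ.ker.map eΔ.toMonoidHom := by
    ext x
    simp [τ', MonoidHom.mem_ker, Subgroup.mem_map_equiv]
  have hτ' : Cfsg.IsStemExtension τ' := by
    refine ⟨hτ.1.comp eΔ.symm.surjective, ?_, ?_⟩
    · rw [hker]
      rintro _ ⟨x, hx, rfl⟩
      rw [mem_center_iff]
      intro y
      obtain ⟨y, rfl⟩ := eΔ.surjective y
      show eΔ y * eΔ x = eΔ x * eΔ y
      rw [← map_mul, ← map_mul, mem_center_iff.1 (hτ.2.1 hx) y]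
    · rw [hker, ← map_commutator_eq eΔ.toMonoidHom eΔ.surjective]
      exact map_mono hτ.2.2
  obtain ⟨π₁, hπ₁⟩ := hup Δ τ' hτ'
  let π₂ : A →* mult p := (e'.symm.toMonoidHom).comp
    ((eΔ.subgroupMap τ.ker).symm.toMonoidHom.comp ((MulEquiv.subgroupCongr hker).toMonoidHom.comp π₁))
  have hπ₂ : Function.Surjective π₂ := e'.symm.surjective.comp ((eΔ.subgroupMap τ.ker).symm.surjective.comp
    ((MulEquiv.subgroupCongr hker).surjective.comp hπ₁))
  obtain ⟨g, hg⟩ := exists_lift p σ hσ.1 hσ.2.1
  have hm := mult_map_eq p hp σ hσ.2.1 g hg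
  rw [inf_eq_left.2 hσ.2.2] at hm
  have : Finite A := Finite.of_equiv _ e.toEquiv
  let π₃ : mult p →* A :=
    e.toMonoidHom.comp ((MulEquiv.subgroupCongr hm).toMonoidHom.comp (g.subgroupMap (mult p)))
  have hπ₃ : Function.Surjective π₃ :=
    e.surjective.comp ((MulEquiv.subgroupCongr hm).surjective.comp (g.subgroupMap_surjective _))
  have := finite_mult p
  have hcard : Nat.card A = Nat.card (mult p) :=
    le_antisymm (Nat.card_le_card_of_surjective π₃ hπ₃) (Nat.card_le_card_of_surjective π₂ hπ₂)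
  exact ⟨MulEquiv.ofBijective π₃ ((Nat.bijective_iff_surjective_and_card _).2 ⟨hπ₃, hcard.symm⟩)⟩

/-- The multiplier bounds `ker τ ⊓ Δ'` for every central extension. -/
theorem exists_surjective_ker_inf {A : Type u} [CommGroup A] (hA : Cfsg.HasSchurMultiplier Q A)
    {Δ : Type u'} [Group Δ] (τ : Δ →* Q) (hτ : Function.Surjective τ) (hc : τ.ker ≤ center Δ) :
    ∃ f : A →* (τ.ker ⊓ commutator Δ : Subgroup Δ), Function.Surjective f := by
  obtain ⟨e⟩ := mult_equiv_of_hasSchurMultiplier hA (stdPres Q) stdPres_surjective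
  obtain ⟨f, hf⟩ := exists_surjective_of_mult (stdPres Q) stdPres_surjective τ hτ hc
  exact ⟨f.comp e.symm.toMonoidHom, hf.comp e.symm.surjective⟩

/-- A trivial multiplier kills every central extension in the derived subgroup. -/
theorem ker_inf_commutator_eq_bot (h : Cfsg.HasCyclicSchurMultiplier Q 1)
    {Δ : Type u'} [Group Δ] (τ : Δ →* Q) (hτ : Function.Surjective τ) (hc : τ.ker ≤ center Δ) :
    τ.ker ⊓ commutator Δ = ⊥ := by
  obtain ⟨f, hf⟩ := exists_surjective_ker_inf h τ hτ hc
  rw [eq_bot_iff]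
  intro x hx
  obtain ⟨a, ha⟩ := hf ⟨x, hx⟩
  have : Subsingleton (Multiplicative (ZMod 1)) := inferInstanceAs (Subsingleton (ZMod 1))
  rw [Subsingleton.elim a 1, map_one] at ha
  rw [mem_bot]
  exact (congrArg Subtype.val ha).symm

/-- Every finite group has a Schur multiplier. -/
theorem hasSchurMultiplier_of_mult (Q : Type v) [Group Q] [Finite Q] {A : Type u} [CommGroup A]
    (e : mult (stdPres Q) ≃* A) : Cfsg.HasSchurMultiplier Q A := by
  obtain ⟨Γ, _, _, σ, hσ, ⟨e'⟩⟩ := exists_stem_equiv_mult (stdPres Q) stdPres_surjective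
  refine ⟨⟨Γ, inferInstance, inferInstance, σ, hσ, ⟨e'.symm.trans e⟩⟩, fun Δ _ _ τ hτ => ?_⟩
  obtain ⟨f, hf⟩ := exists_surjective_of_mult (stdPres Q) stdPres_surjective τ hτ.1 hτ.2.1
  have heq : (τ.ker ⊓ commutator Δ : Subgroup Δ) = τ.ker := inf_eq_left.2 hτ.2.2
  exact ⟨(MulEquiv.subgroupCongr heq).toMonoidHom.comp (f.comp e.symm.toMonoidHom),
    (MulEquiv.subgroupCongr heq).surjective.comp (hf.comp e.symm.surjective)⟩

/-- The multiplier is trivial as soon as stem extensions are trivial. -/
theorem hasCyclicSchurMultiplier_one_of_stem (Q : Type v) [Group Q] [Finite Q]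
    (h : ∀ (Γ : Type v) [Group Γ] [Finite Γ] (σ : Γ →* Q), Cfsg.IsStemExtension σ → σ.ker = ⊥) :
    Cfsg.HasCyclicSchurMultiplier Q 1 := by
  obtain ⟨Γ, _, _, σ, hσ, ⟨e'⟩⟩ := exists_stem_equiv_mult (stdPres Q) stdPres_surjective
  have : Subsingleton (Multiplicative (ZMod 1)) := inferInstanceAs (Subsingleton (ZMod 1))
  have : Subsingleton σ.ker := by rw [h Γ σ hσ]; infer_instance
  have : Subsingleton (mult (stdPres Q)) := e'.toEquiv.subsingleton
  have : Unique (Multiplicative (ZMod 1)) := uniqueOfSubsingleton 1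
  have : Unique (mult (stdPres Q)) := uniqueOfSubsingleton 1
  exact hasSchurMultiplier_of_mult Q MulEquiv.ofUnique

end CfsgLib.SchurCover
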