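import Cfsg.Agent.Lib.SchurCover.Dihedral

/-!
The dicyclic group as a stem extension of the dihedral group.
-/

set_option autoImplicit false

namespace CfsgLib.SchurCover

open Subgroup
open scoped commutatorElement

variable (n : ℕ)

/-- The projection of the dicyclic group onto the dihedral group. -/
def dicyclicToDihedral : QuaternionGroup n →* DihedralGroup n where
  toFun
    | .a i => .r (ZMod.castHom (dvd_mul_left n 2) (ZMod n) i)
    | .xa i => .sr (ZMod.castHom (dvd_mul_left n 2) (ZMod n) i)
  map_one' := by
    show DihedralGroup.r (ZMod.castHom (dvd_mul_left n 2) (ZMod n) 0) = 1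
    rw [map_zero]; rfl
  map_mul' := by
    rintro (i | i) (j | j) <;> simp [map_add, map_sub, map_natCast]

theorem dicyclicToDihedral_surjective : Function.Surjective (dicyclicToDihedral n) := by
  rintro (i | i) <;>
  · obtain ⟨j, rfl⟩ := ZMod.castHom_surjective (dvd_mul_left n 2) i
    first | exact ⟨.a j, rfl⟩ | exact ⟨.xa j, rfl⟩

theorem quaternion_closure_eq_top [NeZero n] :
    closure ({QuaternionGroup.a 1, QuaternionGroup.xa 0} : Set (QuaternionGroup n)) = ⊤ := by
  set S := closure ({QuaternionGroup.a 1, QuaternionGroup.xa 0} : Set (QuaternionGroup n))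
  have ha : QuaternionGroup.a (1 : ZMod (2 * n)) ∈ S := subset_closure (Set.mem_insert _ _)
  have hx : QuaternionGroup.xa (0 : ZMod (2 * n)) ∈ S :=
    subset_closure (Set.mem_insert_of_mem _ rfl)
  rw [eq_top_iff]
  rintro (i | i) -
  · have := pow_mem ha i.val
    rwa [QuaternionGroup.a_one_pow, ZMod.natCast_rightInverse i] at this
  · have := mul_mem hx (pow_mem ha i.val)
    rwa [QuaternionGroup.a_one_pow, ZMod.natCast_rightInverse i, QuaternionGroup.xa_mul_a,
      zero_add] at this

theorem dihedral_closure_eq_top :
    closure ({DihedralGroup.r 1, DihedralGroup.sr 0} : Set (DihedralGroup n)) = ⊤ := by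
  set S := closure ({DihedralGroup.r 1, DihedralGroup.sr 0} : Set (DihedralGroup n))
  have ha : DihedralGroup.r (1 : ZMod n) ∈ S := subset_closure (Set.mem_insert _ _)
  have hx : DihedralGroup.sr (0 : ZMod n) ∈ S := subset_closure (Set.mem_insert_of_mem _ rfl)
  rw [eq_top_iff]
  rintro (i | i) -
  · obtain ⟨k, rfl⟩ := ZMod.intCast_surjective i
    simpa using zpow_mem ha k
  · obtain ⟨k, rfl⟩ := ZMod.intCast_surjective i
    simpa using mul_mem hx (zpow_mem ha k)

theorem isStemExtension_dicyclicToDihedral [NeZero n] (hn : Even n) :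
    Cfsg.IsStemExtension (dicyclicToDihedral n) ∧ Nat.card (dicyclicToDihedral n).ker = 2 := by
  obtain ⟨k, hk⟩ := hn
  have hcard : Nat.card (dicyclicToDihedral n).ker = 2 := by
    have h1 := index_mul_card (dicyclicToDihedral n).ker
    rw [index_ker, MonoidHom.range_eq_top.2 (dicyclicToDihedral_surjective n), card_top,
      DihedralGroup.nat_card, Nat.card_eq_fintype_card (α := QuaternionGroup n), QuaternionGroup.card] at h1
    have : 0 < n := Nat.pos_of_ne_zero (NeZero.ne n)
    nlinarith
  have hker : ∀ z ∈ (dicyclicToDihedral n).ker, z = 1 ∨ z = QuaternionGroup.a ((n : ℕ) : ZMod (2 * n)) := by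
    rintro (i | i) hz
    · have h0 : ZMod.castHom (dvd_mul_left n 2) (ZMod n) i = 0 := DihedralGroup.r.inj hz
      obtain ⟨m, rfl⟩ : ∃ m : ℕ, (m : ZMod (2 * n)) = i := ⟨i.val, ZMod.natCast_rightInverse i⟩
      rw [map_natCast, ZMod.natCast_eq_zero_iff] at h0
      obtain ⟨c, rfl⟩ := h0
      rcases Nat.even_or_odd' c with ⟨d, rfl | rfl⟩
      · left
        rw [show n * (2 * d) = (2 * n) * d by ring, Nat.cast_mul, ZMod.natCast_self, zero_mul]
        rfl
      · right
        rw [show n * (2 * d + 1) = (2 * n) * d + n by ring, Nat.cast_add, Nat.cast_mul,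
          ZMod.natCast_self, zero_mul, zero_add]
    · exact absurd hz (fun h => by cases h)
  refine ⟨⟨dicyclicToDihedral_surjective n, fun z hz => ?_, fun z hz => ?_⟩, hcard⟩
  · rw [mem_center_iff]
    rcases hker z hz with rfl | rfl
    · simp
    · rintro (i | i)
      · simp [add_comm]
      · simp only [QuaternionGroup.xa_mul_a, QuaternionGroup.a_mul_xa]
        congr 1
        have h : ((n : ℕ) : ZMod (2 * n)) + n = 0 := by
          rw [← Nat.cast_add, ← two_mul, ZMod.natCast_self]
        rw [eq_neg_of_add_eq_zero_right h, sub_neg_eq_add, ← eq_neg_of_add_eq_zero_right h]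
  · rcases hker z hz with rfl | rfl
    · exact one_mem _
    · have h2 : QuaternionGroup.a (2 : ZMod (2 * n)) ∈ commutator (QuaternionGroup n) := by
        have h := commutator_mem_commutator (mem_top (QuaternionGroup.a (1 : ZMod (2 * n))))
          (mem_top (QuaternionGroup.xa (0 : ZMod (2 * n))))
        rw [← _root_.commutator_def] at h
        convert h using 1
        rw [show ∀ a x : QuaternionGroup n, ⁅a, x⁆ = a * x * (x * a)⁻¹ from
          fun a x => by simp [commutatorElement_def, mul_assoc], eq_mul_inv_iff_mul_eq]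
        simp only [QuaternionGroup.xa_mul_a, QuaternionGroup.a_mul_xa]
        congr 1
        ring
      have := pow_mem h2 k
      have e : QuaternionGroup.a (2 : ZMod (2 * n)) = QuaternionGroup.a 1 ^ 2 := by
        rw [QuaternionGroup.a_one_pow]; rfl
      rw [e, ← pow_mul, QuaternionGroup.a_one_pow, show 2 * k = n by omega] at this
      exact this

end CfsgLib.SchurCover
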