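import Cfsg.Agent.Lib.SchurCover.Universal

/-!
Stem extensions of dihedral and dicyclic groups.
-/

set_option autoImplicit false

namespace CfsgLib.SchurCover

open Subgroup
open scoped commutatorElement

universe u v

variable {G : Type u} [Group G] {Γ : Type v} [Group Γ]

/-- The derived subgroup of a central extension of a group generated by `a`, `x` is generated by
the commutator of lifts, as soon as that commutator generates a normal subgroup. -/
theorem commutator_eq_zpowers_of_two_generated (σ : Γ →* G) (hc : σ.ker ≤ center Γ)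
    {a x : G} (hgen : closure ({a, x} : Set G) = ⊤) {A X : Γ} (hA : σ A = a) (hX : σ X = x)
    (hAC : A * ⁅X, A⁆ * A⁻¹ ∈ zpowers ⁅X, A⁆) (hAC' : A⁻¹ * ⁅X, A⁆ * A ∈ zpowers ⁅X, A⁆)
    (hXC : X * ⁅X, A⁆ * X⁻¹ ∈ zpowers ⁅X, A⁆) (hXC' : X⁻¹ * ⁅X, A⁆ * X ∈ zpowers ⁅X, A⁆) :
    commutator Γ = zpowers ⁅X, A⁆ := by
  set C := ⁅X, A⁆
  set S := zpowers C
  have hsup : closure ({A, X} : Set Γ) ⊔ σ.ker = ⊤ := by
    rw [← comap_map_eq, MonoidHom.map_closure, Set.image_insert_eq, Set.image_singleton, hA, hX,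
      hgen, comap_top]
  have hconj : ∀ g : Γ, g * C * g⁻¹ ∈ S → g⁻¹ * C * g ∈ S → g ∈ normalizer (S : Set Γ) := by
    intro g h1 h2
    rw [mem_normalizer_iff]
    intro h
    constructor
    · intro hh
      obtain ⟨k, rfl⟩ := mem_zpowers_iff.1 hh
      rw [← conj_zpow]
      exact zpow_mem h1 k
    · intro hh
      obtain ⟨k, hk⟩ := mem_zpowers_iff.1 hh
      have : h = (g⁻¹ * C * g) ^ k := by
        have e := conj_zpow (i := k) (a := g⁻¹) (b := C)
        rw [inv_inv] at e
        rw [e, hk]; group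
      rw [this]
      exact zpow_mem h2 k
  have hN : normalizer (S : Set Γ) = ⊤ := by
    rw [eq_top_iff, ← hsup, sup_le_iff, closure_le]
    refine ⟨?_, fun z hz => ?_⟩
    · rintro g (rfl | rfl)
      · exact hconj _ hAC hAC'
      · exact hconj _ hXC hXC'
    · have hz' := mem_center_iff.1 (hc hz) C
      refine hconj z ?_ ?_
      · rw [← hz', mul_inv_cancel_right]; exact mem_zpowers C
      · rw [mul_assoc, hz', inv_mul_cancel_left]; exact mem_zpowers C
  have hSn : S.Normal := normalizer_eq_top_iff.1 hN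
  refine le_antisymm ?_ (zpowers_le.2 (commutator_mem_commutator (mem_top X) (mem_top A)))
  let π : Γ →* Γ ⧸ S := QuotientGroup.mk' S
  have hAX : Commute (π X) (π A) := by
    rw [← commutatorElement_eq_one_iff_commute, ← map_commutatorElement]
    exact (QuotientGroup.eq_one_iff C).2 (mem_zpowers C)
  have hcen : ∀ g : Γ, g ∈ ({A, X} : Set Γ) ∪ (σ.ker : Set Γ) → π g ∈ center (Γ ⧸ S) := by
    intro g hg
    rw [mem_center_iff]
    intro y
    obtain ⟨y, rfl⟩ := QuotientGroup.mk'_surjective S y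
    have hy : y ∈ closure ({A, X} : Set Γ) ⊔ σ.ker := hsup ▸ mem_top y
    rcases hg with hg | hg
    · have hle : closure ({A, X} : Set Γ) ⊔ σ.ker ≤ (centralizer ({π g} : Set (Γ ⧸ S))).comap π := by
        rw [sup_le_iff, closure_le]
        refine ⟨?_, fun z hz => ?_⟩
        · intro z hz
          rw [SetLike.mem_coe, mem_comap, mem_centralizer_iff]
          rintro _ rfl
          rcases hg with rfl | rfl <;> rcases hz with rfl | rfl <;>
            first | rfl | exact hAX.eq | exact hAX.eq.symm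
        · rw [mem_comap, mem_centralizer_iff]
          rintro _ rfl
          rw [← map_mul, ← map_mul, mem_center_iff.1 (hc hz) g]
      have := hle hy
      rw [mem_comap, mem_centralizer_iff] at this
      exact (this _ rfl).symm
    · show π y * π g = π g * π y
      rw [← map_mul, ← map_mul, mem_center_iff.1 (hc hg) y]
  have htop : center (Γ ⧸ S) = ⊤ := by
    rw [eq_top_iff, ← map_top_of_surjective π (QuotientGroup.mk'_surjective S), ← hsup,
      Subgroup.map_sup, sup_le_iff, MonoidHom.map_closure, closure_le]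
    exact ⟨fun _ ⟨g, hg, hgx⟩ => hgx ▸ hcen g (Or.inl hg),
      fun _ ⟨g, hg, hgx⟩ => hgx ▸ hcen g (Or.inr hg)⟩
  rw [commutator_def, commutator_le]
  intro g _ h _
  rw [← QuotientGroup.eq_one_iff]
  show π ⁅g, h⁆ = 1
  rw [map_commutatorElement, commutatorElement_eq_one_iff_mul_comm]
  exact mem_center_iff.1 (htop ▸ mem_top (π h)) (π g)

/-- The kernel of a stem extension of a group generated by `a` and an element `x` inverting `a`. -/
theorem card_ker_mul_dvd_of_inverting (σ : Γ →* G) (hσ : Cfsg.IsStemExtension σ)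
    {a x : G} (hgen : closure ({a, x} : Set G) = ⊤) (hxa : x * a * x⁻¹ = a⁻¹) (n : ℕ)
    (hn : a ^ n ∈ zpowers x) :
    Nat.card σ.ker * orderOf (a ^ 2) ∣ n := by
  obtain ⟨hs, hc, hd⟩ := hσ
  obtain ⟨A, hA⟩ := hs a
  obtain ⟨X, hX⟩ := hs x
  set C := ⁅X, A⁆ with hC
  have hσC : σ C = (a ^ 2)⁻¹ := by
    rw [hC, map_commutatorElement, hA, hX, commutatorElement_def, hxa, pow_two]
    group
  have hk : C * A ^ 2 ∈ σ.ker := by
    rw [MonoidHom.mem_ker, map_mul, map_pow, hσC, hA, inv_mul_cancel]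
  have hkc : ∀ g, g * (C * A ^ 2) = C * A ^ 2 * g := mem_center_iff.1 (hc hk)
  have hCA : Commute A C := by
    show A * C = C * A
    calc A * C = A * (C * A ^ 2) * (A ^ 2)⁻¹ := by group
      _ = C * A ^ 2 * A * (A ^ 2)⁻¹ := by rw [hkc]
      _ = C * A := by group
  have hXA : X * A * X⁻¹ = C * A := by rw [hC, commutatorElement_def]; group
  have hXC : X * C * X⁻¹ = C⁻¹ := by
    calc X * C * X⁻¹ = X * (C * A ^ 2) * X⁻¹ * ((X * A * X⁻¹) ^ 2)⁻¹ := by
          rw [conj_pow]; group
      _ = C * A ^ 2 * ((C * A) ^ 2)⁻¹ := by rw [hkc, mul_inv_cancel_right, hXA]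
      _ = C * A ^ 2 * (C ^ 2 * A ^ 2)⁻¹ := by rw [hCA.symm.mul_pow]
      _ = C⁻¹ := by group
  have hXC' : X⁻¹ * C * X = C⁻¹ := by
    have h1 := congrArg (fun z => (X⁻¹ * z * X)⁻¹) hXC
    simpa [mul_assoc] using h1.symm
  have heq : commutator Γ = zpowers C :=
    commutator_eq_zpowers_of_two_generated σ hc hgen hA hX
      (by rw [hCA.eq, mul_inv_cancel_right]; exact mem_zpowers C)
      (by rw [mul_assoc, ← hCA.eq, inv_mul_cancel_left]; exact mem_zpowers C)
      (by rw [hXC]; exact inv_mem (mem_zpowers C))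
      (by rw [hXC']; exact inv_mem (mem_zpowers C))
  have hCn : C ^ n = 1 := by
    obtain ⟨j, hj⟩ := mem_zpowers_iff.1 hn
    have hz : (X ^ j)⁻¹ * A ^ n ∈ σ.ker := by
      rw [MonoidHom.mem_ker, map_mul, map_inv, map_pow, map_zpow, hA, hX, hj, inv_mul_cancel]
    have hcomm : Commute X (A ^ n) := by
      have h1 : Commute X (X ^ j) := (Commute.refl X).zpow_right j
      have h2 : Commute X ((X ^ j)⁻¹ * A ^ n) := mem_center_iff.1 (hc hz) X
      simpa using h1.mul_right h2
    have h1 : X * A ^ n * X⁻¹ = A ^ n := by rw [hcomm.eq, mul_inv_cancel_right]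
    rw [← conj_pow, hXA, hCA.symm.mul_pow] at h1
    exact mul_eq_right.1 h1
  have hcard : Nat.card σ.ker * orderOf (a ^ 2) = orderOf C := by
    let ψ := σ.comp (commutator Γ).subtype
    have h1 := index_mul_card ψ.ker
    have h2 : Nat.card ψ.ker = Nat.card σ.ker :=
      Nat.card_congr (subgroupOfEquivOfLe hd).toEquiv
    have h3 : ψ.range = zpowers (σ C) := by
      rw [MonoidHom.range_comp, Subgroup.range_subtype, heq, MonoidHom.map_zpowers]
    rw [index_ker, h2, h3, Nat.card_zpowers, hσC, orderOf_inv] at h1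
    rw [mul_comm, h1, heq, Nat.card_zpowers]
  exact hcard ▸ orderOf_dvd_of_pow_eq_one hCn

end CfsgLib.SchurCover
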