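import Cfsg.Agent.Lib.SchurCover.Perfect

/-!
# Perfect central extensions by the whole multiplier are universal among the perfect ones

If the multiplier of `Q` is cyclic of order `n`, a perfect central extension `B → Q` with kernel of order `n`
maps onto every perfect central extension of `Q`, compatibly and uniquely; onto one with kernel of the same
order it maps isomorphically.
-/

set_option autoImplicit false

namespace CfsgLib.SchurCover

open Subgroup
open scoped commutatorElement

universe u v w

variable {Q : Type v} [Group Q] [Finite Q] {n : ℕ}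

/-- The kernel of a perfect central extension divides the order of a cyclic multiplier. -/
theorem card_ker_dvd_of_perfect (h : Cfsg.HasCyclicSchurMultiplier Q n) {Δ : Type u} [Group Δ]
    (τ : Δ →* Q) (hτ : Function.Surjective τ) (hc : τ.ker ≤ center Δ) (hΔ : Group.IsPerfect Δ) :
    Nat.card τ.ker ∣ n := by
  obtain ⟨f, hf⟩ := exists_surjective_ker_inf h τ hτ hc
  have heq : τ.ker ⊓ commutator Δ = τ.ker := by rw [(Group.isPerfect_def).1 hΔ, inf_top_eq]
  have h1 := Subgroup.card_dvd_of_surjective f hf
  rw [heq, Nat.card_congr Multiplicative.toAdd, Nat.card_zmod] at h1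
  exact h1

omit [Finite Q] in
/-- The derived subgroup of a central extension of a perfect group is perfect and maps onto it. -/
theorem perfect_commutator_of_central {E : Type u} [Group E] (τ : E →* Q) (hτ : Function.Surjective τ)
    (hc : τ.ker ≤ center E) (hQ : Group.IsPerfect Q) :
    Group.IsPerfect (commutator E) ∧ Function.Surjective (τ.comp (commutator E).subtype) := by
  have hsurj : Function.Surjective (τ.comp (commutator E).subtype) := fun q => by
    have hq : q ∈ (commutator E).map τ := by
      rw [map_commutator_eq τ hτ, (Group.isPerfect_def).1 hQ]; exact mem_top q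
    obtain ⟨e, he, rfl⟩ := hq
    exact ⟨⟨e, he⟩, rfl⟩
  refine ⟨(Group.isPerfect_def).2 (eq_top_iff.2 ?_), hsurj⟩
  have hle : commutator E ≤ (commutator ↥(commutator E)).map (commutator E).subtype := by
    conv_lhs => rw [commutator_def]
    rw [commutator_le]
    intro a _ b _
    obtain ⟨a', ha'⟩ := hsurj (τ a)
    obtain ⟨b', hb'⟩ := hsurj (τ b)
    have hmem : ∀ x : E, ∀ x' : ↥(commutator E), τ x' = τ x → (x' : E)⁻¹ * x ∈ center E := fun x x' e =>
      hc (by rw [MonoidHom.mem_ker, map_mul, map_inv, e, inv_mul_cancel])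
    refine ⟨⁅a', b'⁆, commutator_mem_commutator (mem_top a') (mem_top b'), ?_⟩
    rw [map_commutatorElement]
    show ⁅(a' : E), (b' : E)⁆ = ⁅a, b⁆
    rw [← commutator_congr_central (hmem a a' ha') (hmem b b' hb')]
  intro x _
  obtain ⟨y, hy, hyx⟩ := hle x.2
  exact Subtype.ext hyx ▸ hy

variable {A : Type u} [Group A] [Finite A] {B : Type w} [Group B] [Finite B]

/-- **Universality.** A perfect cover by the whole multiplier maps onto every perfect central extension. -/
theorem exists_hom_of_perfect_covers (h : Cfsg.HasCyclicSchurMultiplier Q n) (hQ : Group.IsPerfect Q)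
    (α : A →* Q) (hα : Function.Surjective α) (hαc : α.ker ≤ center A) (hA : Group.IsPerfect A)
    (β : B →* Q) (hβ : Function.Surjective β) (hβc : β.ker ≤ center B) (hB : Group.IsPerfect B)
    (hn : Nat.card β.ker = n) : ∃ φ : B →* A, Function.Surjective φ ∧ α.comp φ = β := by
  set τ : fibre α β →* Q := α.comp (fibreFst α β) with hτdef
  have hτ : Function.Surjective τ := hα.comp (fibreFst_surjective α hβ)
  have hc : τ.ker ≤ center (fibre α β) := by
    rintro ⟨⟨a, b⟩, hab⟩ (ha : α a = 1)
    have hb : β b = 1 := (show α a = β b from hab).symm.trans ha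
    rw [mem_center_iff]
    rintro ⟨⟨a', b'⟩, -⟩
    exact Subtype.ext (Prod.ext (mem_center_iff.1 (hαc ha) a') (mem_center_iff.1 (hβc hb) b'))
  obtain ⟨hD, hDs⟩ := perfect_commutator_of_central τ hτ hc hQ
  set D := commutator (fibre α β) with hDdef
  set pA := (fibreFst α β).comp D.subtype with hpA
  set pB := (fibreSnd α β).comp D.subtype with hpB
  have hsA : Function.Surjective pA := fun a => by
    have ha : a ∈ D.map (fibreFst α β) := by
      rw [hDdef, map_commutator_eq _ (fibreFst_surjective α hβ), (Group.isPerfect_def).1 hA]; exact mem_top a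
    obtain ⟨d, hd, rfl⟩ := ha
    exact ⟨⟨d, hd⟩, rfl⟩
  have hsB : Function.Surjective pB := fun b => by
    have hb : b ∈ D.map (fibreSnd α β) := by
      rw [hDdef, map_commutator_eq _ (fibreSnd_surjective hα β), (Group.isPerfect_def).1 hB]; exact mem_top b
    obtain ⟨d, hd, rfl⟩ := hb
    exact ⟨⟨d, hd⟩, rfl⟩
  have hinj : Function.Bijective pB := by
    refine (Nat.bijective_iff_surjective_and_card _).2 ⟨hsB, le_antisymm ?_ (Nat.card_le_card_of_surjective _ hsB)⟩
    set σ := τ.comp D.subtype with hσ
    have hσc : σ.ker ≤ center D := fun d hd =>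
      mem_center_iff.2 fun e => Subtype.ext (mem_center_iff.1 (hc hd) e)
    have hdvd := card_ker_dvd_of_perfect h σ hDs hσc hD
    have hn0 : 0 < n := hn ▸ Nat.card_pos
    rw [card_eq_card_quotient_mul_card_subgroup σ.ker,
      card_eq_card_quotient_mul_card_subgroup β.ker,
      Nat.card_congr (QuotientGroup.quotientKerEquivOfSurjective σ hDs).toEquiv,
      Nat.card_congr (QuotientGroup.quotientKerEquivOfSurjective β hβ).toEquiv, hn]
    exact Nat.mul_le_mul_left _ (Nat.le_of_dvd hn0 hdvd)
  refine ⟨pA.comp (MulEquiv.ofBijective pB hinj).symm.toMonoidHom, hsA.comp (MulEquiv.surjective _),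
    MonoidHom.ext fun b => ?_⟩
  obtain ⟨d, rfl⟩ := hinj.2 b
  show α (pA ((MulEquiv.ofBijective pB hinj).symm ((MulEquiv.ofBijective pB hinj) d))) = β (pB d)
  rw [MulEquiv.symm_apply_apply]
  exact fibre_rel α β d

/-- Two perfect covers by the whole multiplier are isomorphic over the group. -/
theorem exists_equiv_of_perfect_covers (h : Cfsg.HasCyclicSchurMultiplier Q n) (hQ : Group.IsPerfect Q)
    (α : A →* Q) (hα : Function.Surjective α) (hαc : α.ker ≤ center A) (hA : Group.IsPerfect A)
    (hm : Nat.card α.ker = n)
    (β : B →* Q) (hβ : Function.Surjective β) (hβc : β.ker ≤ center B) (hB : Group.IsPerfect B)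
    (hn : Nat.card β.ker = n) : ∃ φ : B ≃* A, α.comp φ.toMonoidHom = β := by
  obtain ⟨φ, hφ, he⟩ := exists_hom_of_perfect_covers h hQ α hα hαc hA β hβ hβc hB hn
  refine ⟨MulEquiv.ofBijective φ ((Nat.bijective_iff_surjective_and_card _).2 ⟨hφ, ?_⟩), he⟩
  rw [card_eq_card_quotient_mul_card_subgroup α.ker, card_eq_card_quotient_mul_card_subgroup β.ker,
    Nat.card_congr (QuotientGroup.quotientKerEquivOfSurjective α hα).toEquiv,
    Nat.card_congr (QuotientGroup.quotientKerEquivOfSurjective β hβ).toEquiv, hm, hn]

end CfsgLib.SchurCover
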