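import Cfsg.Agent.Lib.SchurCover.Dihedral

/-!
Presentations of metacyclic groups: order of the generator, normal forms, the cover.
-/

set_option autoImplicit false

namespace CfsgLib.SchurCover.Metacyclic

open Subgroup
open scoped commutatorElement

/-- `⟨a, b | a ^ M, b ^ n = a ^ T, b a b⁻¹ = a ^ R⟩`. -/
abbrev relSet (M n R T : ℕ) : Set (FreeGroup Bool) :=
  {FreeGroup.of true ^ M, (FreeGroup.of false) ^ n * (FreeGroup.of true ^ T)⁻¹,
    FreeGroup.of false * FreeGroup.of true * (FreeGroup.of false)⁻¹ * (FreeGroup.of true ^ R)⁻¹}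

variable {M n R T : ℕ}

local notation "Grp" => PresentedGroup (relSet M n R T)

/-- The generator `a`. -/
abbrev genA : Grp := PresentedGroup.of true

/-- The generator `b`. -/
abbrev genB : Grp := PresentedGroup.of false

theorem a_pow : (genA : Grp) ^ M = 1 := by
  have h := PresentedGroup.one_of_mem (rels := relSet M n R T) (x := FreeGroup.of true ^ M) (Or.inl rfl)
  rwa [map_pow] at h

theorem b_pow : (genB : Grp) ^ n = genA ^ T := by
  have h := PresentedGroup.one_of_mem (rels := relSet M n R T)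
    (x := (FreeGroup.of false) ^ n * (FreeGroup.of true ^ T)⁻¹) (Or.inr (Or.inl rfl))
  rw [map_mul, map_inv, map_pow, map_pow, mul_inv_eq_one] at h
  exact h

theorem conj_a : (genB : Grp) * genA * genB⁻¹ = genA ^ R := by
  have h := PresentedGroup.one_of_mem (rels := relSet M n R T)
    (x := FreeGroup.of false * FreeGroup.of true * (FreeGroup.of false)⁻¹ * (FreeGroup.of true ^ R)⁻¹)
    (Or.inr (Or.inr rfl))
  rw [map_mul, map_inv _ (FreeGroup.of true ^ R), map_mul, map_mul, map_inv, map_pow, mul_inv_eq_one] at h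
  exact h

theorem closure_gens : closure ({genA, genB} : Set Grp) = ⊤ := by
  rw [eq_top_iff, ← PresentedGroup.closure_range_of (relSet M n R T), closure_le]
  rintro _ ⟨(_ | _), rfl⟩
  · exact subset_closure (Set.mem_insert_of_mem _ rfl)
  · exact subset_closure (Set.mem_insert _ _)

/-- Normal form. -/
theorem exists_form (hM : 0 < M) (hn : 0 < n) (g : Grp) :
    ∃ i x : ℕ, x < n ∧ g = genA ^ i * genB ^ x := by
  have hb : ∀ g : Grp, (∃ i x : ℕ, x < n ∧ g = genA ^ i * genB ^ x) →
      ∃ i x : ℕ, x < n ∧ genB * g = genA ^ i * genB ^ x := by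
    rintro _ ⟨i, x, hx, rfl⟩
    have h1 : genB * ((genA : Grp) ^ i * genB ^ x) = genA ^ (R * i) * genB ^ (x + 1) := by
      rw [pow_mul, ← conj_a, conj_pow, pow_succ']
      group
    rcases Nat.lt_or_ge (x + 1) n with hlt | hge
    · exact ⟨R * i, x + 1, hlt, h1⟩
    · refine ⟨R * i + T, 0, hn, ?_⟩
      rw [h1, show x + 1 = n by omega, b_pow, pow_zero, mul_one, pow_add]
  have ha : ∀ g : Grp, (∃ i x : ℕ, x < n ∧ g = genA ^ i * genB ^ x) →
      ∃ i x : ℕ, x < n ∧ genA * g = genA ^ i * genB ^ x := by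
    rintro _ ⟨i, x, hx, rfl⟩
    exact ⟨i + 1, x, hx, by rw [← mul_assoc, ← pow_succ']⟩
  have hBinv : (genB : Grp)⁻¹ = genB ^ (n * M - 1) := by
    refine (eq_inv_of_mul_eq_one_left ?_).symm
    rw [← pow_succ, Nat.sub_add_cancel (Nat.mul_pos hn hM), pow_mul, b_pow, ← pow_mul, mul_comm,
      pow_mul, a_pow, one_pow]
  have hAinv : (genA : Grp)⁻¹ = genA ^ (M - 1) := by
    refine (eq_inv_of_mul_eq_one_left ?_).symm
    rw [← pow_succ, Nat.sub_add_cancel hM, a_pow]
  have hiter : ∀ (x : Grp), (∀ g : Grp, (∃ i x : ℕ, x < n ∧ g = genA ^ i * genB ^ x) →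
      ∃ i j : ℕ, j < n ∧ x * g = genA ^ i * genB ^ j) → ∀ (k : ℕ) (g : Grp),
      (∃ i j : ℕ, j < n ∧ g = genA ^ i * genB ^ j) →
      ∃ i j : ℕ, j < n ∧ x ^ k * g = genA ^ i * genB ^ j := by
    intro x hx k
    induction k with
    | zero => intro g hg; simpa using hg
    | succ k ih =>
      intro g hg
      rw [pow_succ', mul_assoc]
      exact hx _ (ih g hg)
  have hg : g ∈ closure ({genA, genB} : Set Grp) := closure_gens ▸ mem_top g
  induction hg using closure_induction_left with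
  | one => exact ⟨0, 0, hn, by simp⟩
  | mul_left x hx y _ ih =>
    rcases hx with rfl | rfl
    · exact ha y ih
    · exact hb y ih
  | inv_mul_cancel x hx y _ ih =>
    rcases hx with rfl | rfl
    · rw [hAinv]; exact hiter _ ha _ y ih
    · rw [hBinv]; exact hiter _ hb _ y ih

theorem finite_grp (hM : 0 < M) (hn : 0 < n) : Finite Grp := by
  refine Finite.of_surjective (fun z : Fin M × Fin n => (genA : Grp) ^ (z.1 : ℕ) * genB ^ (z.2 : ℕ))
    fun g => ?_
  obtain ⟨i, x, hx, rfl⟩ := exists_form hM hn g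
  refine ⟨(⟨i % M, Nat.mod_lt _ hM⟩, ⟨x, hx⟩), ?_⟩
  show genA ^ (i % M) * genB ^ x = genA ^ i * genB ^ x
  rw [← pow_eq_pow_mod i a_pow]

/-- The faithful permutation model. -/
theorem form_eq_one (hM : 0 < M) (hn : 0 < n) (hR : R ^ n ≡ 1 [MOD M]) (hT : T * R ≡ T [MOD M])
    {i x : ℕ} (hx : x < n) (h : (genA : Grp) ^ i * genB ^ x = 1) : x = 0 ∧ M ∣ i := by
  have : NeZero M := ⟨hM.ne'⟩
  have : NeZero n := ⟨hn.ne'⟩
  have hR' : (R : ZMod M) ^ n = 1 := by
    have := (ZMod.natCast_eq_natCast_iff _ _ _).2 hR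
    push_cast at this; exact this
  have hT' : (T : ZMod M) * R = T := by
    have := (ZMod.natCast_eq_natCast_iff _ _ _).2 hT
    push_cast at this; exact this
  let α : Equiv.Perm (ZMod M × ZMod n) := (Equiv.addLeft (1 : ZMod M)).prodCongr (Equiv.refl _)
  let f : ZMod M × ZMod n → ZMod M × ZMod n :=
    fun z => ((R : ZMod M) * z.1 + if z.2 = -1 then (T : ZMod M) else 0, z.2 + 1)
  have hfi : Function.Injective f := by
    intro z w hzw
    have h2 : z.2 = w.2 := add_right_cancel (congrArg Prod.snd hzw)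
    have h1 := congrArg Prod.fst hzw
    simp only [f, h2, add_left_inj] at h1
    have hu : IsUnit (R : ZMod M) := IsUnit.of_mul_eq_one ((R : ZMod M) ^ (n - 1))
      (by rw [← pow_succ', Nat.sub_add_cancel hn, hR'])
    exact Prod.ext (hu.mul_left_cancel h1) h2
  let β : Equiv.Perm (ZMod M × ZMod n) := Equiv.ofBijective f
    ⟨hfi, Finite.injective_iff_surjective.1 hfi⟩
  have hαk : ∀ (k : ℕ) (z : ZMod M × ZMod n), (α ^ k) z = ((k : ZMod M) + z.1, z.2) := by
    intro k
    induction k with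
    | zero => intro z; simp
    | succ k ih =>
      intro z
      rw [pow_succ', Equiv.Perm.mul_apply, ih]
      simp [α]; ring
  have hβk : ∀ (k : ℕ), k < n → ∀ i : ZMod M, (β ^ k) (i, 0) = ((R : ZMod M) ^ k * i, (k : ZMod n)) := by
    intro k
    induction k with
    | zero => intro _ i; simp
    | succ k ih =>
      intro hk i
      have hne : (k : ZMod n) ≠ -1 := by
        intro h0
        have h1 : ((k + 1 : ℕ) : ZMod n) = 0 := by push_cast; rw [h0, neg_add_cancel]
        rw [ZMod.natCast_eq_zero_iff] at h1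
        exact absurd (Nat.le_of_dvd (Nat.succ_pos k) h1) (by omega)
      rw [pow_succ', Equiv.Perm.mul_apply, ih (by omega)]
      show f _ = _
      simp only [f, if_neg hne, add_zero, Nat.cast_succ, pow_succ']
      rw [mul_assoc]
  have hβn0 : ∀ i : ZMod M, (β ^ n) (i, 0) = (i + T, 0) := by
    intro i
    obtain ⟨k, hk⟩ : ∃ k, n = k + 1 := ⟨n - 1, by omega⟩
    have hk1 : (k : ZMod n) = -1 := by
      rw [eq_neg_iff_add_eq_zero, ← Nat.cast_one, ← Nat.cast_add, ← hk, ZMod.natCast_self]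
    rw [show β ^ n = β ^ (k + 1) by rw [← hk], pow_succ', Equiv.Perm.mul_apply, hβk k (by omega)]
    show f _ = _
    simp only [f, hk1, neg_add_cancel, if_true]
    rw [← mul_assoc, ← pow_succ', ← hk, hR', one_mul]
  have hTk : ∀ k : ℕ, (R : ZMod M) ^ k * T = T := by
    intro k
    induction k with
    | zero => simp
    | succ k ih => rw [pow_succ, mul_assoc, mul_comm (R : ZMod M), hT', ih]
  have hβn : β ^ n = α ^ T := by
    refine Equiv.ext fun z => ?_
    obtain ⟨i, y⟩ := z
    obtain ⟨k, hk, rfl⟩ : ∃ k, k < n ∧ (k : ZMod n) = y :=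
      ⟨y.val, ZMod.val_lt y, ZMod.natCast_rightInverse y⟩
    have h1 : (β ^ k) ((R : ZMod M) ^ (n - k) * i, 0) = (i, (k : ZMod n)) := by
      rw [hβk k hk, ← mul_assoc, ← pow_add, Nat.add_sub_cancel' hk.le, hR', one_mul]
    rw [← h1, ← Equiv.Perm.mul_apply, (Commute.pow_pow (Commute.refl β) n k).eq,
      Equiv.Perm.mul_apply, hβn0, hβk k hk, hαk, hβk k hk]
    rw [mul_add, hTk, add_comm]
  have hconj : β * α * β⁻¹ = α ^ R := by
    rw [mul_inv_eq_iff_eq_mul]
    refine Equiv.ext fun z => ?_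
    rw [Equiv.Perm.mul_apply, Equiv.Perm.mul_apply, hαk]
    show f _ = _
    refine Prod.ext ?_ rfl
    show (R : ZMod M) * (1 + z.1) + _ = (R : ZMod M) + ((R : ZMod M) * z.1 + _)
    rw [mul_add, mul_one, add_assoc]
    rfl
  have hαM : α ^ M = 1 := Equiv.ext fun z => by simp [hαk]
  let φ : Grp →* Equiv.Perm (ZMod M × ZMod n) :=
    PresentedGroup.toGroup (f := fun t => cond t α β) (by
      rintro r (rfl | rfl | rfl)
      · simpa using hαM
      · simp [hβn]
      · simp [hconj])
  have hφ := congrArg φ h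
  simp only [map_mul, map_pow, φ, PresentedGroup.toGroup.of, map_one, cond_true, cond_false] at hφ
  have hz := congrArg (fun π : Equiv.Perm (ZMod M × ZMod n) => π (0, 0)) hφ
  simp only [Equiv.Perm.mul_apply, Equiv.Perm.one_apply, hβk x hx, hαk, mul_zero, add_zero,
    Prod.mk.injEq, ZMod.natCast_eq_zero_iff] at hz
  exact ⟨Nat.eq_zero_of_dvd_of_lt hz.2 hx, hz.1⟩

theorem orderOf_genA (hM : 0 < M) (hn : 0 < n) (hR : R ^ n ≡ 1 [MOD M]) (hT : T * R ≡ T [MOD M]) :
    orderOf (genA : Grp) = M := by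
  refine Nat.dvd_antisymm (orderOf_dvd_of_pow_eq_one a_pow) ?_
  have h := form_eq_one (i := orderOf (genA : Grp)) (x := 0) hM hn hR hT hn (by
    rw [pow_orderOf_eq_one, pow_zero, one_mul])
  exact h.2

/-- Restriction of the modulus. -/
theorem exists_proj {M' R' : ℕ} (hdvd : M ∣ M') (hR : R' ≡ R [MOD M]) :
    ∃ σ : PresentedGroup (relSet M' n R' T) →* Grp, σ genA = genA ∧ σ genB = genB := by
  refine ⟨PresentedGroup.toGroup (f := PresentedGroup.of) ?_, ?_, ?_⟩
  · rintro r (rfl | rfl | rfl)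
    · obtain ⟨k, rfl⟩ := hdvd
      rw [map_pow, FreeGroup.lift_apply_of, pow_mul, a_pow, one_pow]
    · rw [map_mul, map_inv, map_pow, map_pow, FreeGroup.lift_apply_of, FreeGroup.lift_apply_of,
        mul_inv_eq_one]
      exact b_pow
    · rw [map_mul, map_inv _ (FreeGroup.of true ^ R'), map_mul, map_mul, map_inv, map_pow,
        FreeGroup.lift_apply_of, FreeGroup.lift_apply_of, mul_inv_eq_one, conj_a,
        pow_eq_pow_mod R a_pow, pow_eq_pow_mod R' a_pow, show R' % M = R % M from hR]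
  · exact PresentedGroup.toGroup.of _
  · exact PresentedGroup.toGroup.of _

end CfsgLib.SchurCover.Metacyclic
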