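import Cfsg.Agent.Lib.SchurCover.Perfect

/-!
The Schur multiplier of a direct product.
-/

set_option autoImplicit false

namespace CfsgLib.SchurCover

open Subgroup
open scoped commutatorElement TensorProduct

universe u v w x

variable (Q₁ : Type u) (Q₂ : Type v) [Group Q₁] [Group Q₂]

/-- The tensor product of the commutator quotients, written multiplicatively. -/
abbrev AbTensor : Type (max u v) :=
  Multiplicative (TensorProduct ℤ (Additive (Abelianization Q₁)) (Additive (Abelianization Q₂)))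

variable {Q₁ Q₂}

/-- The class of a pair in the tensor product. -/
noncomputable def pairing (a : Q₁) (b : Q₂) : AbTensor Q₁ Q₂ :=
  Multiplicative.ofAdd (Additive.ofMul (Abelianization.of a) ⊗ₜ[ℤ] Additive.ofMul (Abelianization.of b))

theorem pairing_mul_left (a a' : Q₁) (b : Q₂) :
    pairing (a * a') b = pairing a b * pairing a' b := by
  simp [pairing, TensorProduct.add_tmul]

theorem pairing_mul_right (a : Q₁) (b b' : Q₂) :
    pairing a (b * b') = pairing a b * pairing a b' := by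
  simp [pairing, TensorProduct.tmul_add]

theorem pairing_one_left (b : Q₂) : pairing (1 : Q₁) b = 1 := by simp [pairing]

theorem pairing_one_right (a : Q₁) : pairing a (1 : Q₂) = 1 := by simp [pairing]

theorem closure_pairing : closure (Set.range fun z : Q₁ × Q₂ => pairing z.1 z.2) = ⊤ := by
  rw [eq_top_iff]
  intro t ht
  clear ht
  obtain ⟨t, rfl⟩ := Multiplicative.ofAdd.surjective t
  induction t with
  | zero => exact one_mem _
  | tmul a b =>
    obtain ⟨a', ha⟩ := QuotientGroup.mk'_surjective (commutator Q₁) (Additive.toMul a)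
    obtain ⟨b', hb⟩ := QuotientGroup.mk'_surjective (commutator Q₂) (Additive.toMul b)
    refine subset_closure ⟨(a', b'), ?_⟩
    show pairing a' b' = _
    rw [pairing, show Abelianization.of a' = Additive.toMul a from ha,
      show Abelianization.of b' = Additive.toMul b from hb]
    rfl
  | add a b ha hb => exact mul_mem ha hb

theorem finite_abTensor [Finite Q₁] [Finite Q₂] : Finite (AbTensor Q₁ Q₂) := by
  have : Group.FG (AbTensor Q₁ Q₂) := Group.fg_iff.2 ⟨_, closure_pairing, Set.finite_range _⟩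
  refine CommGroup.finite_of_fg_isMulTorsion _ ?_
  intro t
  rw [isOfFinOrder_iff_pow_eq_one]
  refine ⟨Nat.card (Abelianization Q₁), Nat.card_pos, ?_⟩
  obtain ⟨t, rfl⟩ := Multiplicative.ofAdd.surjective t
  rw [← ofAdd_nsmul]
  refine congrArg Multiplicative.ofAdd ?_
  induction t with
  | zero => simp
  | tmul a b =>
    have h0 : (Nat.card (Abelianization Q₁)) • a = 0 :=
      congrArg Additive.ofMul (pow_card_eq_one' (x := Additive.toMul a))
    rw [TensorProduct.smul_tmul', h0, TensorProduct.zero_tmul]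
  | add a b ha hb => rw [smul_add, ha, hb, add_zero]

/-- Two groups with coprime abelianizations have trivial tensor product. -/
theorem subsingleton_abTensor [Finite Q₁] [Finite Q₂]
    (hcop : Nat.Coprime (Nat.card (Abelianization Q₁)) (Nat.card (Abelianization Q₂))) :
    Subsingleton (AbTensor Q₁ Q₂) := by
  refine ⟨fun s t => ?_⟩
  suffices h : ∀ r : AbTensor Q₁ Q₂, r = 1 by rw [h s, h t]
  intro r
  have hr : r ∈ (⊤ : Subgroup (AbTensor Q₁ Q₂)) := mem_top r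
  rw [← closure_pairing] at hr
  have hle : closure (Set.range fun z : Q₁ × Q₂ => pairing z.1 z.2) ≤ ⊥ := by
    rw [closure_le]
    rintro _ ⟨⟨a, b⟩, rfl⟩
    rw [SetLike.mem_coe, mem_bot]
    let f : Q₁ →* AbTensor Q₁ Q₂ := MonoidHom.mk' (fun a => pairing a b) fun _ _ => pairing_mul_left _ _ _
    let g : Q₂ →* AbTensor Q₁ Q₂ := MonoidHom.mk' (pairing a) fun _ _ => pairing_mul_right _ _ _
    have h1 : pairing a b ^ Nat.card (Abelianization Q₁) = 1 := by
      show f a ^ _ = 1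
      rw [← Abelianization.lift_apply_of (f := f), ← map_pow, pow_card_eq_one', map_one]
    have h2 : pairing a b ^ Nat.card (Abelianization Q₂) = 1 := by
      show g b ^ _ = 1
      rw [← Abelianization.lift_apply_of (f := g), ← map_pow, pow_card_eq_one', map_one]
    have := pow_gcd_eq_one.2 ⟨h1, h2⟩
    rwa [hcop.gcd_eq_one, pow_one] at this
  exact mem_bot.1 (hle hr)

/-! ### The covering group -/

section Twist

variable {Γ₁ : Type u} {Γ₂ : Type v} [Group Γ₁] [Group Γ₂] (σ₁ : Γ₁ →* Q₁) (σ₂ : Γ₂ →* Q₂)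

/-- The twisted product of two extensions. -/
@[ext] structure Twist (_σ₁ : Γ₁ →* Q₁) (_σ₂ : Γ₂ →* Q₂) where
  /-- first component -/
  fst : Γ₁
  /-- second component -/
  snd : Γ₂
  /-- tensor component -/
  tens : AbTensor Q₁ Q₂

noncomputable instance : Mul (Twist σ₁ σ₂) :=
  ⟨fun g h => ⟨g.fst * h.fst, g.snd * h.snd, g.tens * h.tens * pairing (σ₁ g.fst) (σ₂ h.snd)⟩⟩

noncomputable instance : One (Twist σ₁ σ₂) := ⟨⟨1, 1, 1⟩⟩

noncomputable instance : Inv (Twist σ₁ σ₂) :=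
  ⟨fun g => ⟨g.fst⁻¹, g.snd⁻¹, g.tens⁻¹ * pairing (σ₁ g.fst) (σ₂ g.snd)⟩⟩

theorem Twist.mul_def (g h : Twist σ₁ σ₂) :
    g * h = ⟨g.fst * h.fst, g.snd * h.snd, g.tens * h.tens * pairing (σ₁ g.fst) (σ₂ h.snd)⟩ := rfl

theorem Twist.one_def : (1 : Twist σ₁ σ₂) = ⟨1, 1, 1⟩ := rfl

noncomputable instance : Group (Twist σ₁ σ₂) :=
  Group.ofLeftAxioms
    (fun a b c => by
      ext
      · exact mul_assoc _ _ _
      · exact mul_assoc _ _ _
      · simp only [Twist.mul_def, map_mul, pairing_mul_left, pairing_mul_right]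
        ac_rfl)
    (fun a => by
      ext
      · exact one_mul _
      · exact one_mul _
      · simp [Twist.mul_def, Twist.one_def, pairing_one_left])
    (fun a => by
      ext
      · exact inv_mul_cancel _
      · exact inv_mul_cancel _
      · show a.tens⁻¹ * pairing (σ₁ a.fst) (σ₂ a.snd) * a.tens * pairing (σ₁ a.fst⁻¹) (σ₂ a.snd) = 1
        rw [show a.tens⁻¹ * pairing (σ₁ a.fst) (σ₂ a.snd) * a.tens = pairing (σ₁ a.fst) (σ₂ a.snd) by
          rw [mul_right_comm, inv_mul_cancel, one_mul]]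
        rw [← pairing_mul_left, ← map_mul, mul_inv_cancel, map_one, pairing_one_left])

/-- The projection. -/
noncomputable def twistHom : Twist σ₁ σ₂ →* Q₁ × Q₂ :=
  MonoidHom.mk' (fun g => (σ₁ g.fst, σ₂ g.snd))
    fun g h => Prod.ext (map_mul σ₁ _ _) (map_mul σ₂ _ _)

/-- The first factor inside the twisted product. -/
noncomputable def twistInl : Γ₁ →* Twist σ₁ σ₂ :=
  MonoidHom.mk' (fun g => ⟨g, 1, 1⟩) fun g h => by
    ext <;> simp [Twist.mul_def, pairing_one_right]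

/-- The second factor inside the twisted product. -/
noncomputable def twistInr : Γ₂ →* Twist σ₁ σ₂ :=
  MonoidHom.mk' (fun g => ⟨1, g, 1⟩) fun g h => by
    ext <;> simp [Twist.mul_def, pairing_one_left]

theorem pairing_mem_commutator (hs₁ : Function.Surjective σ₁) (hs₂ : Function.Surjective σ₂)
    (t : AbTensor Q₁ Q₂) : (⟨1, 1, t⟩ : Twist σ₁ σ₂) ∈ commutator (Twist σ₁ σ₂) := by
  let j : AbTensor Q₁ Q₂ →* Twist σ₁ σ₂ := MonoidHom.mk' (fun t => ⟨1, 1, t⟩) fun a b => by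
    ext <;> simp [Twist.mul_def, pairing_one_left]
  have hle : closure (Set.range fun z : Q₁ × Q₂ => pairing z.1 z.2) ≤
      (commutator (Twist σ₁ σ₂)).comap j := by
    rw [closure_le]
    rintro _ ⟨⟨a, b⟩, rfl⟩
    obtain ⟨g, rfl⟩ := hs₁ a
    obtain ⟨h, rfl⟩ := hs₂ b
    have h1 := commutator_mem_commutator (mem_top (twistInl σ₁ σ₂ g)) (mem_top (twistInr σ₁ σ₂ h))
    rw [← _root_.commutator_def] at h1
    show j (pairing (σ₁ g) (σ₂ h)) ∈ commutator (Twist σ₁ σ₂)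
    have he : j (pairing (σ₁ g) (σ₂ h)) * (twistInr σ₁ σ₂ h * twistInl σ₁ σ₂ g) =
        twistInl σ₁ σ₂ g * twistInr σ₁ σ₂ h := by
      ext <;> simp [j, twistInl, twistInr, Twist.mul_def, pairing_one_left, pairing_one_right]
    have he' : j (pairing (σ₁ g) (σ₂ h)) = ⁅twistInl σ₁ σ₂ g, twistInr σ₁ σ₂ h⁆ := by
      rw [eq_mul_inv_of_mul_eq he, commutatorElement_def]; group
    rw [he']
    exact h1
  rw [closure_pairing] at hle
  exact hle (mem_top t)

theorem isStemExtension_twistHom (h₁ : Cfsg.IsStemExtension σ₁) (h₂ : Cfsg.IsStemExtension σ₂) :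
    Cfsg.IsStemExtension (twistHom σ₁ σ₂) := by
  refine ⟨fun q => ?_, fun z hz => ?_, fun z hz => ?_⟩
  · obtain ⟨a, ha⟩ := h₁.1 q.1
    obtain ⟨b, hb⟩ := h₂.1 q.2
    exact ⟨⟨a, b, 1⟩, Prod.ext ha hb⟩
  · obtain ⟨hz₁, hz₂⟩ : σ₁ z.fst = 1 ∧ σ₂ z.snd = 1 :=
      ⟨congrArg Prod.fst hz, congrArg Prod.snd hz⟩
    rw [mem_center_iff]
    intro g
    ext
    · exact mem_center_iff.1 (h₁.2.1 hz₁) g.fst
    · exact mem_center_iff.1 (h₂.2.1 hz₂) g.snd
    · simp [Twist.mul_def, hz₁, hz₂, pairing_one_left, pairing_one_right, mul_comm]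
  · obtain ⟨hz₁, hz₂⟩ : σ₁ z.fst = 1 ∧ σ₂ z.snd = 1 :=
      ⟨congrArg Prod.fst hz, congrArg Prod.snd hz⟩
    have e : z = twistInl σ₁ σ₂ z.fst * twistInr σ₁ σ₂ z.snd * ⟨1, 1, z.tens⟩ := by
      ext <;> simp [twistInl, twistInr, Twist.mul_def, hz₁, hz₂, pairing_one_left, pairing_one_right]
    rw [e]
    refine mul_mem (mul_mem ?_ ?_) (pairing_mem_commutator σ₁ σ₂ h₁.1 h₂.1 _)
    · exact (Subgroup.map_commutator _ _ (twistInl σ₁ σ₂) ▸ commutator_mono le_top le_top :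
        (commutator Γ₁).map (twistInl σ₁ σ₂) ≤ commutator _) (mem_map_of_mem _ (h₁.2.2 hz₁))
    · exact (Subgroup.map_commutator _ _ (twistInr σ₁ σ₂) ▸ commutator_mono le_top le_top :
        (commutator Γ₂).map (twistInr σ₁ σ₂) ≤ commutator _) (mem_map_of_mem _ (h₂.2.2 hz₂))

/-- The kernel of the twisted product. -/
noncomputable def twistKerEquiv :
    (twistHom σ₁ σ₂).ker ≃* σ₁.ker × σ₂.ker × AbTensor Q₁ Q₂ where
  toFun z := (⟨z.1.fst, congrArg Prod.fst z.2⟩, ⟨z.1.snd, congrArg Prod.snd z.2⟩, z.1.tens)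
  invFun t := ⟨⟨t.1, t.2.1, t.2.2⟩, Prod.ext t.1.2 t.2.1.2⟩
  left_inv _ := rfl
  right_inv _ := rfl
  map_mul' a b := by
    have ha : σ₁ a.1.fst = 1 := congrArg Prod.fst a.2
    refine Prod.ext rfl (Prod.ext rfl ?_)
    show a.1.tens * b.1.tens * pairing (σ₁ a.1.fst) (σ₂ b.1.snd) = a.1.tens * b.1.tens
    rw [ha, pairing_one_left, mul_one]

theorem finite_twist [Finite Γ₁] [Finite Γ₂] [Finite Q₁] [Finite Q₂] : Finite (Twist σ₁ σ₂) :=
  have := finite_abTensor (Q₁ := Q₁) (Q₂ := Q₂)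
  Finite.of_injective (fun g : Twist σ₁ σ₂ => (g.fst, g.snd, g.tens)) fun a b h => by
    ext
    · exact congrArg (fun t => t.1) h
    · exact congrArg (fun t => t.2.1) h
    · exact congrArg (fun t => t.2.2) h

end Twist

/-! ### The bound -/

theorem exists_surjective_of_product [Finite Q₁] [Finite Q₂] {A B : Type w} [CommGroup A]
    [CommGroup B] (hA : Cfsg.HasSchurMultiplier Q₁ A) (hB : Cfsg.HasSchurMultiplier Q₂ B)
    {Δ : Type x} [Group Δ] (τ : Δ →* Q₁ × Q₂) (hτ : Function.Surjective τ)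
    (hc : τ.ker ≤ center Δ) (hd : τ.ker ≤ commutator Δ) :
    ∃ π : A × B × AbTensor Q₁ Q₂ →* τ.ker, Function.Surjective π := by
  classical
  let _ : CommGroup τ.ker :=
    { (inferInstance : Group τ.ker) with
      mul_comm := fun a b => Subtype.ext (mem_center_iff.1 (hc b.2) a) }
  set t₁ : Δ →* Q₁ := (MonoidHom.fst Q₁ Q₂).comp τ with ht₁
  set t₂ : Δ →* Q₂ := (MonoidHom.snd Q₁ Q₂).comp τ with ht₂
  set D₁ := t₂.ker with hD₁
  set D₂ := t₁.ker with hD₂
  set τ₁ := t₁.comp D₁.subtype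
  set τ₂ := t₂.comp D₂.subtype
  have hτ₁ : Function.Surjective τ₁ := fun q => by
    obtain ⟨d, hd'⟩ := hτ (q, 1)
    exact ⟨⟨d, show (τ d).2 = 1 by rw [hd']⟩, show (τ d).1 = q by rw [hd']⟩
  have hτ₂ : Function.Surjective τ₂ := fun q => by
    obtain ⟨d, hd'⟩ := hτ (1, q)
    exact ⟨⟨d, show (τ d).1 = 1 by rw [hd']⟩, show (τ d).2 = q by rw [hd']⟩
  have hK₁ : ∀ d : D₁, τ₁ d = 1 → (d : Δ) ∈ τ.ker := fun d h => Prod.ext h d.2
  have hK₂ : ∀ d : D₂, τ₂ d = 1 → (d : Δ) ∈ τ.ker := fun d h => Prod.ext d.2 h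
  have hc₁ : τ₁.ker ≤ center D₁ := fun d h => by
    rw [mem_center_iff]
    exact fun e => Subtype.ext (mem_center_iff.1 (hc (hK₁ d h)) e)
  have hc₂ : τ₂.ker ≤ center D₂ := fun d h => by
    rw [mem_center_iff]
    exact fun e => Subtype.ext (mem_center_iff.1 (hc (hK₂ d h)) e)
  obtain ⟨α, hα⟩ := exists_surjective_ker_inf hA τ₁ hτ₁ hc₁
  obtain ⟨β, hβ⟩ := exists_surjective_ker_inf hB τ₂ hτ₂ hc₂
  let α' : A →* τ.ker := (((D₁.subtype).comp ((τ₁.ker ⊓ commutator D₁).subtype.comp α))).codRestrict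
    τ.ker fun a => hK₁ _ (α a).2.1
  let β' : B →* τ.ker := (((D₂.subtype).comp ((τ₂.ker ⊓ commutator D₂).subtype.comp β))).codRestrict
    τ.ker fun b => hK₂ _ (β b).2.1
  -- the commutator pairing
  choose s₁ hs₁ using hτ₁
  choose s₂ hs₂ using hτ₂
  have hmem : ∀ (a : D₁) (b : D₂), ⁅(a : Δ), (b : Δ)⁆ ∈ τ.ker := fun a b => by
    refine Prod.ext ?_ ?_
    · show t₁ ⁅(a : Δ), (b : Δ)⁆ = 1
      rw [map_commutatorElement, show t₁ (b : Δ) = 1 from b.2, commutatorElement_one_right]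
    · show t₂ ⁅(a : Δ), (b : Δ)⁆ = 1
      rw [map_commutatorElement, show t₂ (a : Δ) = 1 from a.2, commutatorElement_one_left]
  let c : D₁ → D₂ → τ.ker := fun a b => ⟨_, hmem a b⟩
  have hcl : ∀ a a' b, c (a * a') b = c a b * c a' b := fun a a' b => Subtype.ext <| by
    calc ⁅((a * a' : D₁) : Δ), (b : Δ)⁆
        = (a : Δ) * ⁅(a' : Δ), (b : Δ)⁆ * (a : Δ)⁻¹ * ⁅(a : Δ), (b : Δ)⁆ := by
          simp only [Subgroup.coe_mul, commutatorElement_def]; group
      _ = ⁅(a' : Δ), (b : Δ)⁆ * ⁅(a : Δ), (b : Δ)⁆ := by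
          rw [mem_center_iff.1 (hc (hmem a' b)) (a : Δ), mul_inv_cancel_right]
      _ = _ := (mem_center_iff.1 (hc (hmem a' b)) _).symm
  have hcr : ∀ a b b', c a (b * b') = c a b * c a b' := fun a b b' => Subtype.ext <| by
    calc ⁅(a : Δ), ((b * b' : D₂) : Δ)⁆
        = ⁅(a : Δ), (b : Δ)⁆ * ((b : Δ) * ⁅(a : Δ), (b' : Δ)⁆ * (b : Δ)⁻¹) := by
          simp only [Subgroup.coe_mul, commutatorElement_def]; group
      _ = _ := by rw [mem_center_iff.1 (hc (hmem a b')) (b : Δ), mul_inv_cancel_right]; rfl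
  have hcong : ∀ a a' b b', τ₁ a = τ₁ a' → τ₂ b = τ₂ b' → c a b = c a' b' := by
    intro a a' b b' ha hb
    refine Subtype.ext (commutator_congr_central ?_ ?_)
    · exact hc (hK₁ (a'⁻¹ * a) (by rw [map_mul, map_inv, ha, inv_mul_cancel]))
    · exact hc (hK₂ (b'⁻¹ * b) (by rw [map_mul, map_inv, hb, inv_mul_cancel]))
  let F₁ : Q₁ → Q₂ →* τ.ker := fun q => MonoidHom.mk' (fun r => c (s₁ q) (s₂ r)) fun r r' => by
    rw [← hcr]
    exact hcong _ _ _ _ rfl (by rw [map_mul, hs₂, hs₂, hs₂])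
  let F₂ : Q₁ →* (Abelianization Q₂ →* τ.ker) := MonoidHom.mk' (fun q => Abelianization.lift (F₁ q))
    fun q q' => Abelianization.hom_ext _ _ <| MonoidHom.ext fun r => by
      simp only [MonoidHom.comp_apply, MonoidHom.mul_apply, Abelianization.lift_apply_of]
      show c (s₁ (q * q')) (s₂ r) = c (s₁ q) (s₂ r) * c (s₁ q') (s₂ r)
      rw [← hcl]
      exact hcong _ _ _ _ (by rw [map_mul, hs₁, hs₁, hs₁]) rfl
  let F₃ : Additive (Abelianization Q₁) →+ Additive (Abelianization Q₂) →+ Additive τ.ker :=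
    { toFun := fun a => MonoidHom.toAdditive (Abelianization.lift F₂ (Additive.toMul a))
      map_zero' := AddMonoidHom.ext fun b => by
        show Additive.ofMul (Abelianization.lift F₂ 1 (Additive.toMul b)) = 0
        rw [map_one]; rfl
      map_add' := fun a a' => AddMonoidHom.ext fun b => by
        show Additive.ofMul (Abelianization.lift F₂ (Additive.toMul a * Additive.toMul a')
          (Additive.toMul b)) = _
        rw [map_mul]; rfl }
  let θ : AbTensor Q₁ Q₂ →* τ.ker :=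
    AddMonoidHom.toMultiplicativeLeft (TensorProduct.liftAddHom F₃ fun r m k => by
      rw [map_zsmul, map_zsmul, AddMonoidHom.smul_apply])
  have hθ : ∀ (a : D₁) (b : D₂), θ (pairing (τ₁ a) (τ₂ b)) = c a b := fun a b => by
    show Abelianization.lift F₂ (Abelianization.of (τ₁ a)) (Abelianization.of (τ₂ b)) = c a b
    rw [Abelianization.lift_apply_of]
    show Abelianization.lift (F₁ (τ₁ a)) (Abelianization.of (τ₂ b)) = c a b
    rw [Abelianization.lift_apply_of]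
    exact hcong _ _ _ _ (hs₁ _) (hs₂ _)
  let π : A × B × AbTensor Q₁ Q₂ →* τ.ker := α'.coprod (β'.coprod θ)
  refine ⟨π, ?_⟩
  -- everything lies in the range
  set R : Subgroup Δ := π.range.map τ.ker.subtype with hR
  have hRK : R ≤ τ.ker := map_subtype_le _
  have hRn : R.Normal := ⟨fun x hx g => by
    rwa [mem_center_iff.1 (hc (hRK hx)) g, mul_inv_cancel_right]⟩
  have hθR : ∀ a b, ⁅(a : D₁).1, (b : D₂).1⁆ ∈ R := fun a b =>
    ⟨c a b, ⟨(1, 1, pairing (τ₁ a) (τ₂ b)), by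
      show α' 1 * (β' 1 * θ (pairing (τ₁ a) (τ₂ b))) = c a b
      rw [map_one, map_one, one_mul, one_mul, hθ]⟩, rfl⟩
  let μ : Δ →* Δ ⧸ R := QuotientGroup.mk' R
  have hμ : ∀ (a : D₁) (b : D₂), Commute (μ a) (μ b) := fun a b => by
    rw [← commutatorElement_eq_one_iff_commute, ← map_commutatorElement]
    exact (QuotientGroup.eq_one_iff _).2 (hθR a b)
  have hgen : ∀ d : Δ, ∃ (a : D₁) (b : D₂), d = (a : Δ) * b := fun d => by
    refine ⟨⟨d * (s₂ (t₂ d) : Δ)⁻¹, ?_⟩, s₂ (t₂ d), by rw [inv_mul_cancel_right]⟩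
    show t₂ (d * (s₂ (t₂ d) : Δ)⁻¹) = 1
    rw [map_mul, map_inv, show t₂ (s₂ (t₂ d) : Δ) = t₂ d from hs₂ (t₂ d), mul_inv_cancel]
  have hder : commutator Δ ≤ ((commutator D₁).map D₁.subtype ⊔ (commutator D₂).map D₂.subtype) ⊔ R := by
    set S := (commutator D₁).map D₁.subtype ⊔ (commutator D₂).map D₂.subtype
    rw [_root_.commutator_def, commutator_le]
    intro x _ y _
    obtain ⟨a, b, rfl⟩ := hgen x
    obtain ⟨a', b', rfl⟩ := hgen y
    have hS : ((⁅a, a'⁆ : D₁) : Δ) * ((⁅b, b'⁆ : D₂) : Δ) ∈ S :=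
      mul_mem_sup (mem_map_of_mem _ (commutator_mem_commutator (mem_top a) (mem_top a')))
        (mem_map_of_mem _ (commutator_mem_commutator (mem_top b) (mem_top b')))
    have heq : μ ⁅(a : Δ) * b, (a' : Δ) * b'⁆ = μ (((⁅a, a'⁆ : D₁) : Δ) * ((⁅b, b'⁆ : D₂) : Δ)) := by
      show μ _ = μ (D₁.subtype ⁅a, a'⁆ * D₂.subtype ⁅b, b'⁆)
      rw [map_commutatorElement D₁.subtype, map_commutatorElement D₂.subtype, Subgroup.coe_subtype,
        Subgroup.coe_subtype]
      simp only [map_mul, map_inv, commutatorElement_def, mul_inv_rev]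
      have h1 : μ b * μ a' = μ a' * μ b := (hμ a' b).symm.eq
      have h2 : Commute (μ b) (μ a)⁻¹ := (hμ a b).symm.inv_right
      have h3 : Commute (μ b') ((μ a)⁻¹ * (μ a')⁻¹) :=
        ((hμ a b').symm.inv_right).mul_right ((hμ a' b').symm.inv_right)
      have h4 : Commute (μ b) ((μ a')⁻¹) := (hμ a' b).symm.inv_right
      calc μ a * μ b * (μ a' * μ b') * ((μ b)⁻¹ * (μ a)⁻¹) * ((μ b')⁻¹ * (μ a')⁻¹)
          = μ a * (μ b * μ a') * μ b' * (μ b)⁻¹ * ((μ a)⁻¹ * (μ b')⁻¹) * (μ a')⁻¹ := by group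
        _ = μ a * μ a' * (μ b * μ b' * (μ b)⁻¹ * (μ b')⁻¹) * (μ a)⁻¹ * (μ a')⁻¹ := by
            rw [h1, ((hμ a b').inv_inv).eq]; group
        _ = μ a * μ a' * ((μ b * μ b' * (μ b)⁻¹ * (μ b')⁻¹) * ((μ a)⁻¹ * (μ a')⁻¹)) := by group
        _ = μ a * μ a' * (((μ a)⁻¹ * (μ a')⁻¹) * (μ b * μ b' * (μ b)⁻¹ * (μ b')⁻¹)) := by
            have h5 : Commute (μ b) ((μ a)⁻¹ * (μ a')⁻¹) := h2.mul_right h4
            rw [(((h5.mul_left h3).mul_left h5.inv_left).mul_left h3.inv_left).eq]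
        _ = _ := by group
    have hfin := mul_mem_sup hS (QuotientGroup.eq.1 heq.symm)
    rwa [mul_inv_cancel_left] at hfin
  intro k
  obtain ⟨x, hx, r, hr, hxr⟩ := mem_sup_of_normal_right.1 (hder (hd k.2))
  have hcomm : ∀ p ∈ (commutator D₁).map D₁.subtype, ∀ q ∈ (commutator D₂).map D₂.subtype,
      Commute p q := by
    rintro _ ⟨p, hp, rfl⟩ _ ⟨q, hq, rfl⟩
    let φ : D₁ →* τ.ker := MonoidHom.mk' (fun a => c a q) fun a a' => hcl a a' q
    have h0 : φ p = 1 := Abelianization.commutator_subset_ker φ hp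
    exact commutatorElement_eq_one_iff_commute.1 (congrArg Subtype.val h0)
  obtain ⟨p, hp, q, hq, rfl⟩ : ∃ p ∈ (commutator D₁).map D₁.subtype,
      ∃ q ∈ (commutator D₂).map D₂.subtype, x = p * q := by
    rw [sup_eq_closure] at hx
    refine closure_induction (fun z hz => ?_) ⟨1, one_mem _, 1, one_mem _, (one_mul 1).symm⟩ ?_ ?_ hx
    · rcases hz with hz | hz
      · exact ⟨z, hz, 1, one_mem _, (mul_one z).symm⟩
      · exact ⟨1, one_mem _, z, hz, (one_mul z).symm⟩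
    · rintro _ _ - - ⟨p, hp, q, hq, rfl⟩ ⟨p', hp', q', hq', rfl⟩
      refine ⟨p * p', mul_mem hp hp', q * q', mul_mem hq hq', ?_⟩
      exact Commute.mul_mul_mul_comm (hcomm p' hp' q hq).symm _ _
    · rintro _ - ⟨p, hp, q, hq, rfl⟩
      exact ⟨p⁻¹, inv_mem hp, q⁻¹, inv_mem hq,
        by rw [mul_inv_rev]; exact ((hcomm p hp q hq).inv_inv).eq.symm⟩
  obtain ⟨p, hp', rfl⟩ := hp
  obtain ⟨q, hq', rfl⟩ := hq
  have hk : τ ((p : Δ) * q) = 1 := by
    have h0 : τ ((p : Δ) * q * r) = 1 := by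
      rw [show (p : Δ) * q * r = k from hxr]; exact k.2
    rwa [map_mul, show τ r = 1 from hRK hr, mul_one] at h0
  have hp1 : τ₁ p = 1 := by
    have h0 : t₁ ((p : Δ) * q) = 1 := congrArg Prod.fst hk
    rwa [map_mul, show t₁ (q : Δ) = 1 from q.2, mul_one] at h0
  have hq1 : τ₂ q = 1 := by
    have h0 : t₂ ((p : Δ) * q) = 1 := congrArg Prod.snd hk
    rwa [map_mul, show t₂ (p : Δ) = 1 from p.2, one_mul] at h0
  obtain ⟨a, ha⟩ := hα ⟨p, hp1, hp'⟩
  obtain ⟨b, hb⟩ := hβ ⟨q, hq1, hq'⟩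
  obtain ⟨y, ⟨z, rfl⟩, hzr⟩ := hr
  refine ⟨(a, b, 1) * z, Subtype.ext ?_⟩
  rw [map_mul]
  show ((α' a : Δ) * ((β' b : Δ) * (θ 1 : Δ))) * (π z : Δ) = k
  rw [map_one, OneMemClass.coe_one, mul_one, ← hxr, ← hzr]
  show ((α a : D₁) : Δ) * ((β b : D₂) : Δ) * _ = _
  rw [ha, hb]
  rfl

end CfsgLib.SchurCover
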