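import Cfsg.Agent.Lib.SchurCover.Perfect

/-!
Projective representations lift exactly when the multiplier is trivial.
-/

set_option autoImplicit false

namespace CfsgLib.SchurCover

open Subgroup
open scoped commutatorElement

universe u v

variable {Q : Type u} [Group Q] [Finite Q]

theorem scalar_inj {n : ℕ} (hn : 0 < n) :
    Function.Injective (Matrix.GeneralLinearGroup.scalar (Fin n) : ℂˣ →* GL (Fin n) ℂ) := by
  intro a b h
  refine Units.ext ?_
  have h1 := Matrix.ext_iff.2 (congrArg Units.val h) ⟨0, hn⟩ ⟨0, hn⟩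
  simpa using h1

theorem det_scalar_eq {n : ℕ} (a : ℂˣ) :
    Matrix.GeneralLinearGroup.det (Matrix.GeneralLinearGroup.scalar (Fin n) a) = a ^ n := by
  refine Units.ext ?_
  simp [Matrix.GeneralLinearGroup.val_det_apply]

/-- With a trivial multiplier, projective representations lift. -/
theorem exists_lift_of_trivial (hQ : Cfsg.HasCyclicSchurMultiplier Q 1) (n : ℕ)
    (γ : Q →* GL (Fin n) ℂ ⧸ center (GL (Fin n) ℂ)) :
    ∃ ρ : Q →* GL (Fin n) ℂ, (QuotientGroup.mk' (center (GL (Fin n) ℂ))).comp ρ = γ := by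
  classical
  rcases Nat.eq_zero_or_pos n with rfl | hn
  · exact ⟨1, MonoidHom.ext fun q => by
      obtain ⟨g, hg⟩ := QuotientGroup.mk'_surjective _ (γ q)
      rw [← hg, MonoidHom.comp_apply, MonoidHom.one_apply, Subsingleton.elim g 1]⟩
  set sc : ℂˣ →* GL (Fin n) ℂ := Matrix.GeneralLinearGroup.scalar (Fin n) with hsc
  set Z := center (GL (Fin n) ℂ) with hZ
  have hZsc : Z = sc.range := Matrix.GeneralLinearGroup.center_eq_range_scalar
  set π := QuotientGroup.mk' Z
  set S : Subgroup (GL (Fin n) ℂ) := (Matrix.GeneralLinearGroup.det : GL (Fin n) ℂ →* ℂˣ).ker with hS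
  set ξ : S →* GL (Fin n) ℂ ⧸ Z := π.comp S.subtype with hξ
  -- determinant one representatives
  have hξs : Function.Surjective ξ := by
    intro x
    obtain ⟨g, rfl⟩ := QuotientGroup.mk'_surjective Z x
    obtain ⟨c, hc⟩ := IsAlgClosed.exists_pow_nat_eq ((Matrix.GeneralLinearGroup.det g : ℂˣ) : ℂ) hn
    have hc0 : c ≠ 0 := fun h0 => by
      rw [h0, zero_pow hn.ne'] at hc
      exact (Matrix.GeneralLinearGroup.det g).ne_zero hc.symm
    set u : ℂˣ := Units.mk0 c hc0
    have hu : u ^ n = Matrix.GeneralLinearGroup.det g := Units.ext (by simpa [u] using hc)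
    refine ⟨⟨(sc u)⁻¹ * g, ?_⟩, ?_⟩
    · rw [hS, MonoidHom.mem_ker, map_mul, map_inv, hsc, det_scalar_eq, hu, inv_mul_cancel]
    · show π ((sc u)⁻¹ * g) = π g
      have h1 : π (sc u) = 1 := (QuotientGroup.eq_one_iff _).2 (hZsc ▸ ⟨u, rfl⟩)
      rw [map_mul, map_inv, h1, inv_one, one_mul]
  have hξc : ξ.ker ≤ center S := fun s hs => by
    rw [mem_center_iff]
    intro t
    exact Subtype.ext (mem_center_iff.1 ((QuotientGroup.eq_one_iff (s : GL (Fin n) ℂ)).1 hs) t)
  set E := fibre γ ξ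
  set f := fibreFst γ ξ with hf
  have hfs : Function.Surjective f := fibreFst_surjective γ hξs
  have hfc : f.ker ≤ center E := ker_fibreFst_le_center γ hξc
  have hbot : f.ker ⊓ commutator E = ⊥ := ker_inf_commutator_eq_bot hQ f hfs hfc
  have hmemZ : ∀ k : f.ker, ((fibreSnd γ ξ (k : E) : S) : GL (Fin n) ℂ) ∈ sc.range := fun k => by
    have h1 : ξ (fibreSnd γ ξ (k : E)) = 1 := by
      rw [← fibre_rel, ← hf, show f (k : E) = 1 from k.2, map_one]
    exact hZsc ▸ (QuotientGroup.eq_one_iff _).1 h1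
  let χ₀ : f.ker →* ℂˣ := (MonoidHom.ofInjective (scalar_inj hn)).symm.toMonoidHom.comp
    ((S.subtype.comp ((fibreSnd γ ξ).comp f.ker.subtype)).codRestrict sc.range hmemZ)
  have hχ₀ : ∀ k, sc (χ₀ k) = ((fibreSnd γ ξ (k : E) : S) : GL (Fin n) ℂ) := fun k =>
    congrArg Subtype.val ((MonoidHom.ofInjective (scalar_inj hn)).apply_symm_apply _)
  -- finiteness
  have hχinj : Function.Injective χ₀ := by
    intro a b hab
    have h1 := congrArg sc hab
    rw [hχ₀, hχ₀] at h1
    refine Subtype.ext (Subtype.ext (Prod.ext ?_ (Subtype.ext h1)))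
    exact (show f (a : E) = 1 from a.2).trans (show f (b : E) = 1 from b.2).symm
  have hχn : ∀ k, χ₀ k ^ n = 1 := fun k => by
    rw [← det_scalar_eq, ← hsc, hχ₀]
    exact (fibreSnd γ ξ (k : E)).2
  have : NeZero n := ⟨hn.ne'⟩
  have : Finite f.ker := Finite.of_injective
    (fun k => (⟨χ₀ k, (mem_rootsOfUnity n _).2 (hχn k)⟩ : rootsOfUnity n ℂ))
    (fun a b hab => hχinj (congrArg Subtype.val hab))
  have : Finite E := by
    refine Nat.finite_of_card_ne_zero ?_
    rw [← index_mul_card f.ker, index_ker]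
    exact Nat.mul_ne_zero Nat.card_pos.ne' Nat.card_pos.ne'
  -- extend the character
  let μ : E →* Abelianization E := Abelianization.of
  have hμinj : Function.Injective (μ.comp f.ker.subtype) := (injective_iff_map_eq_one _).2 fun k hk => by
    have h1 : (k : E) ∈ f.ker ⊓ commutator E := ⟨k.2, by
      rw [SetLike.mem_coe, ← Abelianization.ker_of]; exact hk⟩
    rw [hbot, mem_bot] at h1
    exact Subtype.ext h1
  let H : Subgroup (Abelianization E) := (μ.comp f.ker.subtype).range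
  have : NeZero ((Monoid.exponent (Abelianization E) : ℕ) : ℂ) :=
    ⟨by exact_mod_cast Monoid.exponent_ne_zero_of_finite⟩
  obtain ⟨η, hη⟩ := MonoidHom.domRestrict_surjective ℂ H
    (χ₀.comp (MonoidHom.ofInjective hμinj).symm.toMonoidHom)
  have hηk : ∀ k : f.ker, η (μ k) = χ₀ k := fun k => by
    have h1 := DFunLike.congr_fun hη ((MonoidHom.ofInjective hμinj) k)
    show η (μ k) = χ₀ k
    calc η (μ k) = χ₀ ((MonoidHom.ofInjective hμinj).symm ((MonoidHom.ofInjective hμinj) k)) := h1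
      _ = χ₀ k := by rw [MulEquiv.symm_apply_apply]
  have hcen : ∀ a (g : GL (Fin n) ℂ), g * sc a = sc a * g := fun a =>
    mem_center_iff.1 (hZsc ▸ ⟨a, rfl⟩ : sc a ∈ Z)
  let L : E →* GL (Fin n) ℂ :=
    { toFun := fun e => sc (η (μ e))⁻¹ * (fibreSnd γ ξ e : GL (Fin n) ℂ)
      map_one' := by simp
      map_mul' := fun a b => by
        rw [map_mul, map_mul, map_mul, Subgroup.coe_mul, mul_inv, map_mul]
        exact Commute.mul_mul_mul_comm (hcen _ _).symm _ _ }
  have hLk : f.ker ≤ L.ker := fun k hk => by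
    show sc (η (μ k))⁻¹ * (fibreSnd γ ξ k : GL (Fin n) ℂ) = 1
    rw [hηk ⟨k, hk⟩, map_inv, hχ₀, inv_mul_cancel]
  refine ⟨f.liftOfSurjective hfs ⟨L, hLk⟩, MonoidHom.ext fun q => ?_⟩
  obtain ⟨e, rfl⟩ := hfs q
  rw [MonoidHom.comp_apply, MonoidHom.liftOfRightInverse_comp_apply]
  show π (sc (η (μ e))⁻¹ * (fibreSnd γ ξ e : GL (Fin n) ℂ)) = γ (f e)
  have h1 : π (sc (η (μ e))⁻¹) = 1 := (QuotientGroup.eq_one_iff _).2 (hZsc ▸ ⟨_, rfl⟩)
  rw [map_mul, h1, one_mul, hf, fibre_rel]
  rfl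

/-- A stem extension with nontrivial kernel gives a projective representation without lift. -/
theorem ker_eq_bot_of_lift {Γ : Type v} [Group Γ] [Finite Γ] (σ : Γ →* Q)
    (hσ : Cfsg.IsStemExtension σ)
    (hlift : ∀ (n : ℕ) (γ : Q →* GL (Fin n) ℂ ⧸ center (GL (Fin n) ℂ)),
      ∃ ρ : Q →* GL (Fin n) ℂ, (QuotientGroup.mk' (center (GL (Fin n) ℂ))).comp ρ = γ) :
    σ.ker = ⊥ := by
  classical
  obtain ⟨hs, hc, hd⟩ := hσ
  by_contra hne
  obtain ⟨z, hz⟩ := ne_bot_iff_exists_ne_one.1 hne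
  let _ : CommGroup σ.ker :=
    { (inferInstance : Group σ.ker) with
      mul_comm := fun a b => Subtype.ext (mem_center_iff.1 (hc b.2) a) }
  have : NeZero ((Monoid.exponent σ.ker : ℕ) : ℂ) :=
    ⟨by exact_mod_cast Monoid.exponent_ne_zero_of_finite⟩
  obtain ⟨χ, hχ⟩ := CommGroup.exists_apply_ne_one_of_hasEnoughRootsOfUnity σ.ker ℂ hz
  set n := Nat.card Q with hn
  let ε : Q ≃ Fin n := Finite.equivFin Q
  choose s hsec using hs
  have hk : ∀ (g : Γ) (y : Q), (s (σ g * y))⁻¹ * g * s y ∈ σ.ker := fun g y => by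
    rw [MonoidHom.mem_ker, map_mul, map_mul, map_inv, hsec, hsec, mul_assoc, inv_mul_cancel]
  have hχ1 : ∀ k : σ.ker, (k : Γ) = 1 → χ k = 1 := fun k h0 => by
    rw [show k = 1 from Subtype.ext h0, map_one]
  have hχmul : ∀ k k₁ k₂ : σ.ker, (k : Γ) = k₁ * k₂ → χ k = χ k₁ * χ k₂ := fun k k₁ k₂ h0 => by
    rw [show k = k₁ * k₂ from Subtype.ext h0, map_mul]
  -- the monomial matrices
  let M : Γ → Matrix (Fin n) (Fin n) ℂ := fun g i j =>
    if ε.symm i = σ g * ε.symm j then (χ ⟨_, hk g (ε.symm j)⟩ : ℂˣ) else 0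
  have hM1 : M 1 = 1 := by
    ext i j
    simp only [M, map_one, one_mul, EmbeddingLike.apply_eq_iff_eq]
    rcases eq_or_ne i j with rfl | hij
    · rw [if_pos rfl, Matrix.one_apply_eq]
      rw [hχ1 _ (by simp), Units.val_one]
    · rw [if_neg hij, Matrix.one_apply_ne hij]
  have hMmul : ∀ g h, M (g * h) = M g * M h := by
    intro g h
    ext i j
    rw [Matrix.mul_apply, Finset.sum_eq_single (ε (σ h * ε.symm j))]
    · simp only [M, Equiv.symm_apply_apply, if_true, map_mul, mul_assoc]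
      by_cases hi : ε.symm i = σ g * (σ h * ε.symm j)
      · rw [if_pos hi, if_pos hi, ← Units.val_mul]
        refine congrArg Units.val (hχmul _ _ _ ?_)
        simp only [map_mul, mul_assoc]
        group
      · rw [if_neg hi, if_neg hi, zero_mul]
    · intro b _ hb
      have : ε.symm b ≠ σ h * ε.symm j := fun h0 => hb (by rw [← h0, Equiv.apply_symm_apply])
      simp only [M]
      rw [if_neg this, mul_zero]
    · intro h0
      exact absurd (Finset.mem_univ _) h0
  let T : Γ →* GL (Fin n) ℂ := MonoidHom.toHomUnits { toFun := M, map_one' := hM1, map_mul' := hMmul }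
  set Z := center (GL (Fin n) ℂ) with hZ
  set π := QuotientGroup.mk' Z
  set sc : ℂˣ →* GL (Fin n) ℂ := Matrix.GeneralLinearGroup.scalar (Fin n) with hsc
  have hZsc : Z = sc.range := Matrix.GeneralLinearGroup.center_eq_range_scalar
  have hTk : ∀ k : σ.ker, T k = sc (χ k) := fun k => by
    refine Units.ext ?_
    ext i j
    show M (k : Γ) i j = _
    simp only [M]
    have hk1 : σ (k : Γ) = 1 := k.2
    rcases eq_or_ne i j with rfl | hij
    · rw [if_pos (by rw [hk1, one_mul])]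
      have : (⟨_, hk (k : Γ) (ε.symm i)⟩ : σ.ker) = k := Subtype.ext (by
        show (s (σ (k : Γ) * ε.symm i))⁻¹ * k * s (ε.symm i) = k
        rw [hk1, one_mul, mul_assoc, ← mem_center_iff.1 (hc k.2) (s (ε.symm i)), inv_mul_cancel_left])
      rw [this]
      simp [sc]
    · rw [if_neg (by rw [hk1, one_mul]; exact fun h0 => hij (ε.symm.injective h0))]
      simp [sc, hij]
  have hker : σ.ker ≤ (π.comp T).ker := fun k hk => by
    show π (T k) = 1
    rw [hTk ⟨k, hk⟩]
    exact (QuotientGroup.eq_one_iff _).2 (hZsc ▸ ⟨_, rfl⟩)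
  have hs' : Function.Surjective σ := fun q => ⟨s q, hsec q⟩
  obtain ⟨ρ, hρ⟩ := hlift n (σ.liftOfSurjective hs' ⟨π.comp T, hker⟩)
  have hρv : ∀ g, π (ρ (σ g)) = π (T g) := fun g => by
    have h1 := DFunLike.congr_fun hρ (σ g)
    rwa [MonoidHom.liftOfRightInverse_comp_apply] at h1
  have hle : commutator Γ ≤ (ρ.comp σ).eqLocus T := by
    rw [_root_.commutator_def, commutator_le]
    intro a _ b _
    show (ρ.comp σ) ⁅a, b⁆ = T ⁅a, b⁆
    rw [map_commutatorElement, map_commutatorElement]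
    exact (commutator_congr_central (QuotientGroup.eq.1 (hρv a)) (QuotientGroup.eq.1 (hρv b))).symm
  have h1 : ρ (σ (z : Γ)) = T z := hle (hd z.2)
  rw [show σ (z : Γ) = 1 from z.2, map_one, hTk] at h1
  have hpos : 0 < n := Nat.card_pos
  exact hχ (scalar_inj hpos (h1.symm.trans (map_one sc).symm))

end CfsgLib.SchurCover
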